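import Groth.Agent.CohDer.K234.Pro

/-! Essentially constant inverse systems: comparison with pro-isomorphisms to constant systems, and
the two-out-of-three property in systems of distinguished triangles. -/

set_option autoImplicit false
set_option backward.isDefEq.respectTransparency false

universe v u v' u'

open CategoryTheory CategoryTheory.Limits CategoryTheory.Pretriangulated Opposite K234.Raw K234.Pro

namespace K234.EssConst

section Cat

variable {C : Type u} [Category.{v} C]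

/-- The system `n ↦ X (j + n)`. -/
abbrev sh (j : ℕ) (X : ARSys.PS C) : ARSys.PS C :=
  DerCA.reindex X (m := fun n => j + n) (fun _ _ h => Nat.add_le_add_left h j)

lemma tr_sh (j : ℕ) (X : ARSys.PS C) {a b : ℕ} (h : a ≤ b) :
    ARSys.tr (sh j X) h = ARSys.tr X (Nat.add_le_add_left h j) := rfl

/-- A map from a system to a constant system, given by a map from one term. -/
def toConst (j : ℕ) (X : ARSys.PS C) {A : C} (s : X.obj (op j) ⟶ A) :
    sh j X ⟶ (Functor.const ℕᵒᵖ).obj A where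
  app n := ARSys.tr X (Nat.le_add_right j n.unop) ≫ s
  naturality m n f := by
    change X.map _ ≫ X.map _ ≫ s = (X.map _ ≫ s) ≫ 𝟙 A
    rw [Category.comp_id, ← Category.assoc, ← X.map_comp]
    rfl

lemma toConst_app (j : ℕ) (X : ARSys.PS C) {A : C} (s : X.obj (op j) ⟶ A) (n : ℕ) :
    (toConst j X s).app (op n) = ARSys.tr X (Nat.le_add_right j n) ≫ s := rfl

lemma cone_tr {X : ARSys.PS C} {A : C} (c : (Functor.const ℕᵒᵖ).obj A ⟶ X) {a b : ℕ} (h : a ≤ b) :
    c.app (op b) ≫ ARSys.tr X h = c.app (op a) := by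
  rw [← tr_nat]
  exact Category.id_comp _

/-- An essentially constant system is eventually pro-isomorphic to its value. -/
lemma isProIso_toConst {X : ARSys.PS C} {A : C} (c : (Functor.const ℕᵒᵖ).obj A ⟶ X) {i : ℕ}
    (s : X.obj (op i) ⟶ A) (hs : c.app (op i) ≫ s = 𝟙 A)
    (hc : ∀ j : ℕ, ∃ (k : ℕ) (hi : i ≤ k) (hj : j ≤ k),
      ARSys.tr X hj = ARSys.tr X hi ≫ s ≫ c.app (op j)) (j : ℕ) (hij : i ≤ j) :
    DerCA.IsProIso (toConst j X (ARSys.tr X hij ≫ s)) := by
  intro n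
  obtain ⟨k, hik, hjk, h⟩ := hc (j + n)
  have hk : j + n ≤ j + k := by lia
  refine ⟨k, by lia, c.app (op (j + n)), ?_, ?_⟩
  · rw [toConst_app, tr_sh, Category.assoc, Category.assoc, tr_trans'_assoc X hij _ (hij.trans (by lia)),
      ← tr_trans X hik (Nat.le_add_left k j), Category.assoc, ← h, tr_trans]
  · rw [toConst_app, ← Category.assoc, cone_tr, ← Category.assoc, cone_tr]
    exact hs

/-- If a system is pro-isomorphic to a constant system, it is essentially constant. -/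
lemma exists_cone {Y : ARSys.PS C} {B : C} (β : Y ⟶ (Functor.const ℕᵒᵖ).obj B)
    (hβ : DerCA.IsProIso β) :
    ∃ (c : (Functor.const ℕᵒᵖ).obj B ⟶ Y), (∀ n : ℕ, c.app (op n) ≫ β.app (op n) = 𝟙 B) ∧
      ∀ n : ℕ, ∃ (m : ℕ) (h : n ≤ m), ∀ (k : ℕ) (h' : m ≤ k),
        β.app (op k) ≫ c.app (op n) = ARSys.tr Y (h.trans h') := by
  choose m hm b h1 h2 using hβ
  have h2' : ∀ n, b n ≫ β.app (op n) = 𝟙 B := fun n => (h2 n).trans rfl
  have htr : ∀ {a b : ℕ} (h : a ≤ b), ARSys.tr Y h ≫ β.app (op a) = β.app (op b) := fun h =>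
    (tr_nat β h).trans (Category.comp_id _)
  have h3 : ∀ n (k : ℕ) (h' : m n ≤ k), β.app (op k) ≫ b n = ARSys.tr Y ((hm n).trans h') := by
    intro n k h'
    rw [← htr h', Category.assoc, h1, tr_trans]
  have h4 : ∀ {a c : ℕ} (h : a ≤ c), b c ≫ ARSys.tr Y h = b a := by
    intro a c h
    have h5 : β.app (op (max (m a) (m c))) ≫ b c ≫ ARSys.tr Y h =
        β.app (op (max (m a) (m c))) ≫ b a := by
      rw [h3 a _ (le_max_left _ _), ← Category.assoc, h3 c _ (le_max_right _ _), tr_trans]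
    have h6 := b (max (m a) (m c)) ≫= h5
    rw [← Category.assoc, ← Category.assoc (b (max (m a) (m c))), h2'] at h6
    exact (Category.id_comp _).symm.trans (h6.trans (Category.id_comp _))
  let c : (Functor.const ℕᵒᵖ).obj B ⟶ Y :=
    { app := fun n => b n.unop
      naturality := fun x y f => by
        have h7 := h4 (leOfHom f.unop)
        exact (Category.id_comp _).trans h7.symm }
  exact ⟨c, h2', fun n => ⟨m n, hm n, fun k h' => h3 n k h'⟩⟩

/-- Essential constancy is detected after reindexing. -/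
lemma isEssConstant_of_sh {Y : ARSys.PS C} {B : C} (j : ℕ) (y : Y.obj (op j) ⟶ B)
    (hβ : DerCA.IsProIso (toConst j Y y)) :
    ∃ (c : (Functor.const ℕᵒᵖ).obj B ⟶ Y), DerCA.IsEssConstant Y B c := by
  obtain ⟨c, h1, h2⟩ := exists_cone _ hβ
  let c' : (Functor.const ℕᵒᵖ).obj B ⟶ Y :=
    { app := fun n => c.app n ≫ ARSys.tr Y (Nat.le_add_left n.unop j)
      naturality := fun x y f => by
        refine (Category.id_comp _).trans ?_
        have h3 := cone_tr c (leOfHom f.unop)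
        change c.app y ≫ _ = (c.app x ≫ ARSys.tr Y _) ≫ ARSys.tr Y (leOfHom f.unop)
        rw [Category.assoc, tr_trans]
        have h4 : c.app y = c.app x ≫ ARSys.tr (sh j Y) (leOfHom f.unop) := h3.symm
        rw [h4, tr_sh, Category.assoc, tr_trans] }
  refine ⟨c', j, y, ?_, fun l => ?_⟩
  · change (c.app (op j) ≫ ARSys.tr Y _) ≫ y = 𝟙 B
    rw [Category.assoc]
    exact h1 j
  · obtain ⟨m, hm, h⟩ := h2 l
    refine ⟨j + m, Nat.le_add_right _ _, by lia, ?_⟩
    have h3 := h m le_rfl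
    rw [toConst_app, tr_sh] at h3
    change ARSys.tr Y _ = ARSys.tr Y _ ≫ y ≫ c.app (op l) ≫ ARSys.tr Y _
    rw [← Category.assoc y, ← Category.assoc, ← Category.assoc, h3, tr_trans]

end Cat

section Tri

variable {D : Type u} [Category.{v} D] [Preadditive D] [HasZeroObject D] [HasShift D ℤ]
    [∀ n : ℤ, (shiftFunctor D n).Additive] [Pretriangulated D]

/-- Essential constancy of the middle system of a system of distinguished triangles. -/
theorem middle (X Y Z : ARSys.PS D) (f : X ⟶ Y) (g : Y ⟶ Z) (h : Z ⟶ X ⋙ shiftFunctor D (1 : ℤ))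
    (hT : ∀ n : ℕ, Dist (f.app (op n)) (g.app (op n)) (h.app (op n)))
    (hX : ∃ (A : D) (cA : (Functor.const ℕᵒᵖ).obj A ⟶ X), DerCA.IsEssConstant X A cA)
    (hZ : ∃ (C : D) (cC : (Functor.const ℕᵒᵖ).obj C ⟶ Z), DerCA.IsEssConstant Z C cC) :
    ∃ (B : D) (cB : (Functor.const ℕᵒᵖ).obj B ⟶ Y), DerCA.IsEssConstant Y B cB := by
  obtain ⟨A, cA, iA, sA, hsA, hA⟩ := hX
  obtain ⟨C, cC, iC, sC, hsC, hC⟩ := hZ
  have nh : ∀ {a b : ℕ} (hab : a ≤ b), ARSys.tr Z hab ≫ h.app (op a) =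
      h.app (op b) ≫ (ARSys.tr X hab)⟦(1 : ℤ)⟧' := fun hab => h.naturality _
  obtain ⟨j, hjC, hj, hjj⟩ := hC (max iA iC)
  have hjA : iA ≤ j := (le_max_left _ _).trans hj
  let s : X.obj (op j) ⟶ A := ARSys.tr X hjA ≫ sA
  let t : Z.obj (op j) ⟶ C := ARSys.tr Z hjC ≫ sC
  let δ : C ⟶ A⟦(1 : ℤ)⟧ := cC.app (op (max iA iC)) ≫ h.app (op (max iA iC)) ≫
    (ARSys.tr X (le_max_left iA iC) ≫ sA)⟦(1 : ℤ)⟧'
  have hδ : h.app (op j) ≫ s⟦(1 : ℤ)⟧' = t ≫ δ := by
    have h1 : s = ARSys.tr X hj ≫ ARSys.tr X (le_max_left iA iC) ≫ sA := by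
      rw [tr_trans'_assoc X (le_max_left iA iC) hj hjA]
    have h2 : t ≫ cC.app (op (max iA iC)) = ARSys.tr Z hj := by
      rw [hjj, Category.assoc]
    rw [h1, Functor.map_comp, ← Category.assoc, ← nh, ← h2]
    simp only [Category.assoc, δ]
  obtain ⟨B, u, v, hB⟩ := distinguished_cocone_triangle₂ δ
  obtain ⟨y, hy1, hy2⟩ := complete₂ (hT j) hB s t hδ
  have hα : DerCA.IsProIso (toConst j X s) := isProIso_toConst cA sA hsA hA j hjA
  have hγ : DerCA.IsProIso (toConst j Z t) := isProIso_toConst cC sC hsC hC j hjC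
  let f' : (Functor.const ℕᵒᵖ).obj A ⟶ (Functor.const ℕᵒᵖ).obj B := (Functor.const ℕᵒᵖ).map u
  let g' : (Functor.const ℕᵒᵖ).obj B ⟶ (Functor.const ℕᵒᵖ).obj C := (Functor.const ℕᵒᵖ).map v
  let h' : (Functor.const ℕᵒᵖ).obj C ⟶ (Functor.const ℕᵒᵖ).obj A ⋙ shiftFunctor D (1 : ℤ) :=
    { app := fun _ => δ
      naturality := fun _ _ _ => by
        change 𝟙 C ≫ δ = δ ≫ (𝟙 A)⟦(1 : ℤ)⟧'
        rw [Category.id_comp, CategoryTheory.Functor.map_id, Category.comp_id] }
  let fs : sh j X ⟶ sh j Y := Functor.whiskerLeft _ f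
  let gs : sh j Y ⟶ sh j Z := Functor.whiskerLeft _ g
  let hs : sh j Z ⟶ sh j X ⋙ shiftFunctor D (1 : ℤ) := Functor.whiskerLeft _ h
  have hβ : DerCA.IsProIso (toConst j Y y) := by
    refine isProIso₂ fs gs hs f' g' h' (fun n => hT (j + n)) (fun n => hB)
      (toConst j X s) (toConst j Y y) (toConst j Z t) ?_ ?_ ?_ hα hγ
    · intro n
      change f.app (op (j + n)) ≫ ARSys.tr Y _ ≫ y = (ARSys.tr X _ ≫ s) ≫ u
      rw [← tr_nat_assoc, hy1]
      simp only [Category.assoc]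
    · intro n
      change g.app (op (j + n)) ≫ ARSys.tr Z _ ≫ t = (ARSys.tr Y _ ≫ y) ≫ v
      rw [← tr_nat_assoc, hy2, Category.assoc]
    · intro n
      change h.app (op (j + n)) ≫ (ARSys.tr X _ ≫ s)⟦(1 : ℤ)⟧' = (ARSys.tr Z _ ≫ t) ≫ δ
      rw [Functor.map_comp, ← Category.assoc, ← nh, Category.assoc, hδ]
      simp only [Category.assoc]
  obtain ⟨c, hc⟩ := isEssConstant_of_sh j y hβ
  exact ⟨B, c, hc⟩

end Tri

end K234.EssConst
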