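import Groth.Agent.CohtopA.KInjRes2
import Mathlib.Algebra.Homology.HomotopyCategory.DegreewiseSplit
import Mathlib.Algebra.Homology.HomologySequenceLemmas
import Mathlib.Algebra.Homology.HomologicalComplexBiprod
import Mathlib.CategoryTheory.Abelian.GrothendieckCategory.EnoughInjectives
import Mathlib.CategoryTheory.Triangulated.Orthogonal

/-! Fibrant (K-injective with injective terms) complexes in a Grothendieck abelian category:
functorial replacement, injective objects of the category of complexes, quotients. -/

set_option autoImplicit false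

universe w v u

open CategoryTheory CategoryTheory.Limits HomologicalComplex CochainComplex ZeroObject
open Groth.Agent.CohtopA.KInjRes2 Groth.Agent.CohtopA.KInjRes Groth.Agent.CohtopA.TrivCof

namespace K234.KInjTools

variable {A : Type u} [Category.{v} A] [Abelian A]

section General

/-- Injective objects of the category of complexes are fibrant. -/
lemma fibrant_of_injective (E : CochainComplex A ℤ) [Injective E] : Fibrant E :=
  fun _ _ i _ _ f => ⟨Injective.factorThru f i, Injective.comp_factorThru _ _⟩

/-- Injective objects of the category of complexes are contractible. -/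
lemma contractible_of_injective (E : CochainComplex A ℤ) [Injective E] :
    Nonempty (Homotopy (𝟙 E) 0) := by
  let ρ := Injective.factorThru (𝟙 E) (mappingCone.inr (𝟙 E))
  have hρ : mappingCone.inr (𝟙 E) ≫ ρ = 𝟙 E := Injective.comp_factorThru _ _
  have h := ((mappingCone.homotopyToZeroOfId E).compLeft (mappingCone.inr (𝟙 E))).compRight ρ
  exact ⟨(Homotopy.ofEq (by simp [hρ])).trans (h.trans (Homotopy.ofEq (by simp)))⟩

lemma Fibrant.biprod {X Y : CochainComplex A ℤ} (hX : Fibrant X) (hY : Fibrant Y) :
    Fibrant (X ⊞ Y) := by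
  intro K L i h1 h2 f
  obtain ⟨g, hg⟩ := hX i h1 h2 (f ≫ biprod.fst)
  obtain ⟨g', hg'⟩ := hY i h1 h2 (f ≫ biprod.snd)
  refine ⟨biprod.lift g g', ?_⟩
  apply biprod.hom_ext
  · simpa using hg
  · simpa using hg'

/-- Fibrant complexes are invariant under isomorphism. -/
lemma Fibrant.of_iso {X Y : CochainComplex A ℤ} (e : X ≅ Y) (hX : Fibrant X) : Fibrant Y := by
  intro K L i h1 h2 f
  obtain ⟨g, hg⟩ := hX i h1 h2 (f ≫ e.inv)
  exact ⟨g ≫ e.hom, by rw [← Category.assoc, hg, Category.assoc, e.inv_hom_id, Category.comp_id]⟩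

/-- The projection with contractible kernel is a homotopy equivalence. -/
noncomputable def fstEquiv (X Y : CochainComplex A ℤ) (h : Homotopy (𝟙 Y) 0) :
    HomotopyEquiv (X ⊞ Y) X where
  hom := biprod.fst
  inv := biprod.inl
  homotopyHomInvId := by
    let h1 : Homotopy ((biprod.snd : X ⊞ Y ⟶ Y) ≫ 𝟙 Y ≫ (biprod.inr : Y ⟶ X ⊞ Y))
        (biprod.snd ≫ 0 ≫ (biprod.inr : Y ⟶ X ⊞ Y)) :=
      (h.compRight biprod.inr).compLeft biprod.snd
    let h2 := (Homotopy.refl ((biprod.fst : X ⊞ Y ⟶ X) ≫ biprod.inl)).add h1
    exact ((Homotopy.ofEq (by simp)).trans h2.symm).trans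
      (Homotopy.ofEq (by rw [Category.id_comp, biprod.total]))
  homotopyInvHomId := Homotopy.ofEq (by simp)

lemma quasiIso_fst (X Y : CochainComplex A ℤ) [Injective Y] :
    QuasiIso (biprod.fst : X ⊞ Y ⟶ X) := by
  obtain ⟨h⟩ := contractible_of_injective Y
  exact inferInstanceAs (QuasiIso (fstEquiv X Y h).hom)

/-- The quotient of a K-injective complex by a K-injective subcomplex with injective terms is
K-injective. -/
lemma isKInjective_of_shortExact {S : ShortComplex (CochainComplex A ℤ)} (hS : S.ShortExact)
    (h₁ : S.X₁.IsKInjective) (h₂ : S.X₂.IsKInjective) (hinj : ∀ n, Injective (S.X₁.X n)) :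
    S.X₃.IsKInjective := by
  rw [isKInjective_iff_rightOrthogonal] at h₁ h₂ ⊢
  let σ : ∀ n, (S.map (eval A (ComplexShape.up ℤ) n)).Splitting := fun n => by
    have h1 : (S.map (eval A (ComplexShape.up ℤ) n)).ShortExact := hS.map_of_exact _
    have : Injective (S.map (eval A (ComplexShape.up ℤ) n)).X₁ := hinj n
    exact h1.splittingOfInjective
  have hT : trianglehOfDegreewiseSplit S σ ∈ Pretriangulated.distinguishedTriangles := by
    rw [HomotopyCategory.distinguished_iff_iso_trianglehOfDegreewiseSplit]
    exact ⟨S, σ, ⟨Iso.refl _⟩⟩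
  exact ObjectProperty.ext_of_isTriangulatedClosed₃ _ _ hT h₁ h₂

/-- The quotient of an injective object by an injective subobject is injective. -/
lemma injective_of_shortExact {C : Type*} [Category* C] [Abelian C] {S : ShortComplex C}
    (hS : S.ShortExact) [Injective S.X₁] [Injective S.X₂] : Injective S.X₃ := by
  have σ := hS.splittingOfInjective
  exact Injective.mk (fun {U V} f i _ => ⟨Injective.factorThru (f ≫ σ.s) i ≫ S.g, by
    rw [← Category.assoc, Injective.comp_factorThru, Category.assoc, σ.s_g, Category.comp_id]⟩)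

end General

section Functorial

variable (A) [IsGrothendieckAbelian.{w} A]

/-- The functorial factorization. -/
lemma hasFunctorialFactorization : (trivCof A).HasFunctorialFactorization (trivCof A).rlp := by
  rw [← genTrivCof_rlp.{w}, ← llp_rlp_trivCof.{w}, ← genTrivCof_rlp.{w}]
  infer_instance

/-- A functorial factorization of morphisms of complexes. -/
noncomputable def ffd : (trivCof A).FunctorialFactorizationData (trivCof A).rlp :=
  have := hasFunctorialFactorization.{w} A
  MorphismProperty.functorialFactorizationData _ _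

/-- The functor `M ↦ (M ⟶ 0)`. -/
noncomputable def toZero : CochainComplex A ℤ ⥤ Arrow (CochainComplex A ℤ) where
  obj M := Arrow.mk (0 : M ⟶ 0)
  map f := Arrow.homMk f (𝟙 _) ((isZero_zero _).eq_of_tgt _ _)
  map_id M := by ext; rfl; rfl
  map_comp f g := by ext; rfl; exact (Category.id_comp _).symm

/-- The functorial fibrant replacement. -/
noncomputable def R : CochainComplex A ℤ ⥤ CochainComplex A ℤ := toZero A ⋙ (ffd.{w} A).Z

/-- The natural transformation to the fibrant replacement. -/
noncomputable def η : 𝟭 (CochainComplex A ℤ) ⟶ R.{w} A :=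
  Functor.whiskerLeft (toZero A) (ffd.{w} A).i

variable {A}

lemma mono_η (M : CochainComplex A ℤ) : Mono ((η.{w} A).app M) := ((ffd.{w} A).hi _).1

lemma quasiIso_η (M : CochainComplex A ℤ) : QuasiIso ((η.{w} A).app M) := ((ffd.{w} A).hi _).2

lemma fibrant_R (M : CochainComplex A ℤ) : Fibrant ((R.{w} A).obj M) := by
  intro K L i h1 h2 f
  have : HasLiftingProperty i ((ffd.{w} A).p.app ((toZero A).obj M)) :=
    (ffd.{w} A).hp _ _ ⟨h1, h2⟩
  have sq : CommSq f i ((ffd.{w} A).p.app ((toZero A).obj M)) 0 :=
    ⟨(isZero_zero _).eq_of_tgt _ _⟩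
  obtain ⟨l⟩ := (this.sq_hasLift sq).exists_lift
  exact ⟨l.l, l.fac_left⟩

lemma η_naturality {M N : CochainComplex A ℤ} (f : M ⟶ N) :
    f ≫ (η.{w} A).app N = (η.{w} A).app M ≫ (R.{w} A).map f := (η.{w} A).naturality f

end Functorial

end K234.KInjTools
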