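import Groth.Prelude.Def_SpSeq
import Groth.Agent.CohDer.K234.KInjTools

/-! The filtered complex attached to a `ℤ`-indexed inverse system of complexes mapping to a complex. -/

set_option autoImplicit false

universe w v u

open CategoryTheory CategoryTheory.Limits HomologicalComplex CochainComplex ZeroObject
open Groth.Agent.CohtopA.KInjRes2 K234.KInjTools

namespace K234.FilDiag

variable (A : Type u) [Category.{v} A] [Abelian A]

/-- An inverse system of complexes `… ⟶ G (p + 1) ⟶ G p ⟶ …` over `ℤ` with compatible maps to a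
complex `I`, and monomorphisms from the terms to injective objects of the category of complexes. -/
structure Diag where
  /-- the terms -/
  G : ℤ → CochainComplex A ℤ
  /-- the transition maps -/
  dd : ∀ {p q : ℤ}, p ≤ q → (G q ⟶ G p)
  dd_id : ∀ (p : ℤ) (h : p ≤ p), dd h = 𝟙 (G p)
  dd_comp : ∀ {p q r : ℤ} (h₁ : p ≤ q) (h₂ : q ≤ r), dd h₂ ≫ dd h₁ = dd (h₁.trans h₂)
  /-- the target -/
  I : CochainComplex A ℤ
  /-- the maps to the target -/
  φ : ∀ p, G p ⟶ I
  φ_comp : ∀ {p q : ℤ} (h : p ≤ q), dd h ≫ φ p = φ q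
  /-- the injective hulls -/
  E : ℤ → CochainComplex A ℤ
  /-- the embeddings -/
  e : ∀ r, G r ⟶ E r
  mono_e : ∀ r, Mono (e r)
  injE : ∀ r, Injective (E r)

attribute [instance] Diag.mono_e Diag.injE

namespace Diag

variable {A}
variable [HasLimitsOfSize.{0, 0} (CochainComplex A ℤ)] (D : Diag A)

/-- the total complex -/
noncomputable abbrev J : CochainComplex A ℤ := D.I ⊞ ∏ᶜ D.E

/-- the steps -/
noncomputable abbrev F (q : ℤ) : CochainComplex A ℤ :=
  D.G q ⊞ ∏ᶜ (fun r : {r : ℤ // q < r} => D.E r.1)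

/-- a component of a map out of `F q` -/
noncomputable def comp (q r : ℤ) : D.F q ⟶ D.E r :=
  if h : q < r then biprod.snd ≫ Pi.π (fun r : {r : ℤ // q < r} => D.E r.1) ⟨r, h⟩
  else biprod.fst ≫ D.dd (not_lt.1 h) ≫ D.e r

lemma comp_of_lt {q r : ℤ} (h : q < r) :
    D.comp q r = biprod.snd ≫ Pi.π (fun r : {r : ℤ // q < r} => D.E r.1) ⟨r, h⟩ := dif_pos h

lemma comp_of_le {q r : ℤ} (h : r ≤ q) :
    D.comp q r = biprod.fst ≫ D.dd h ≫ D.e r := dif_neg (not_lt.2 h)

/-- the inclusions of the steps -/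
noncomputable def m (q : ℤ) : D.F q ⟶ D.J :=
  biprod.lift (biprod.fst ≫ D.φ q) (Pi.lift (fun r => D.comp q r))

@[reassoc]
lemma m_fst (q : ℤ) : D.m q ≫ biprod.fst = biprod.fst ≫ D.φ q := biprod.lift_fst _ _

@[reassoc]
lemma m_snd_π (q r : ℤ) : D.m q ≫ biprod.snd ≫ Pi.π D.E r = D.comp q r := by
  rw [m, biprod.lift_snd_assoc, Limits.Pi.lift_π]

lemma J_hom_ext {Z : CochainComplex A ℤ} {f g : Z ⟶ D.J} (h₁ : f ≫ biprod.fst = g ≫ biprod.fst)
    (h₂ : ∀ r, f ≫ biprod.snd ≫ Pi.π D.E r = g ≫ biprod.snd ≫ Pi.π D.E r) : f = g := by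
  apply biprod.hom_ext
  · exact h₁
  · refine Limits.Pi.hom_ext _ _ (fun r => ?_)
    rw [Category.assoc, Category.assoc]
    exact h₂ r

instance mono_m (q : ℤ) : Mono (D.m q) := by
  rw [Preadditive.mono_iff_cancel_zero]
  intro Z z hz
  have h1 : ∀ r, z ≫ D.comp q r = 0 := by
    intro r
    rw [← D.m_snd_π, ← Category.assoc, hz, zero_comp]
  have h2 : z ≫ biprod.fst = 0 := by
    have h3 := h1 q
    rw [D.comp_of_le le_rfl, D.dd_id, Category.id_comp, ← Category.assoc] at h3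
    exact (cancel_mono (D.e q)).1 (h3.trans zero_comp.symm)
  apply biprod.hom_ext
  · rw [h2, zero_comp]
  · refine Limits.Pi.hom_ext _ _ (fun r => ?_)
    have h3 := h1 r.1
    rw [D.comp_of_lt r.2] at h3
    rw [Category.assoc, h3, zero_comp, zero_comp]

/-- the transition maps of the steps -/
noncomputable def t {p q : ℤ} (h : p ≤ q) : D.F q ⟶ D.F p :=
  biprod.lift (biprod.fst ≫ D.dd h) (Pi.lift (fun r => D.comp q r.1))

lemma t_m {p q : ℤ} (h : p ≤ q) : D.t h ≫ D.m p = D.m q := by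
  apply D.J_hom_ext
  · rw [Category.assoc, m_fst, t, biprod.lift_fst_assoc, Category.assoc, D.φ_comp, m_fst]
  · intro r
    rw [Category.assoc, m_snd_π, m_snd_π]
    by_cases hr : p < r
    · rw [D.comp_of_lt hr, t, biprod.lift_snd_assoc, Limits.Pi.lift_π]
    · rw [not_lt] at hr
      rw [D.comp_of_le hr, D.comp_of_le (hr.trans h), t, biprod.lift_fst_assoc, Category.assoc,
        ← Category.assoc (D.dd h), D.dd_comp]

/-- the filtered complex -/
noncomputable def fil : SpSeq.FilCx A where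
  obj := D.J
  fil q := Subobject.mk (D.m q)
  anti _ _ h := Subobject.mk_le_mk_of_comm (D.t h) (D.t_m h)

/-- the steps of the filtered complex -/
noncomputable def stepIso (q : ℤ) : D.fil.step q ≅ D.F q := Subobject.underlyingIso (D.m q)

@[reassoc]
lemma stepIso_hom_m (q : ℤ) : (D.stepIso q).hom ≫ D.m q = (D.fil.fil q).arrow :=
  Subobject.underlyingIso_hom_comp_eq_mk _

@[reassoc]
lemma stepIso_inv_arrow (q : ℤ) : (D.stepIso q).inv ≫ (D.fil.fil q).arrow = D.m q :=
  (Iso.inv_comp_eq _).2 (D.stepIso_hom_m q).symm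

lemma stepLE_comp {p q : ℤ} (h : p ≤ q) :
    D.fil.stepLE h ≫ (D.stepIso p).hom = (D.stepIso q).hom ≫ D.t h := by
  have h1 : D.fil.stepLE h ≫ (D.fil.fil p).arrow = (D.fil.fil q).arrow :=
    Subobject.ofLE_arrow _
  rw [← cancel_mono (D.m p), Category.assoc, Category.assoc, D.t_m, stepIso_hom_m, stepIso_hom_m]
  exact h1

end Diag

end K234.FilDiag
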