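import Mathlib.CategoryTheory.EqToHom
import Mathlib.Algebra.Order.Group.Int
import Mathlib.Data.Int.Basic
import Mathlib.Tactic.Ring
import Mathlib.Tactic.Linarith

/-! Recursion over `ℤ` in both directions, inverse systems over `ℤ` from their successor maps. -/

set_option autoImplicit false

universe w v u

open CategoryTheory

namespace K234.ZSeq

section Rec

variable (X : ℤ → Type u) (Rel : ∀ i : ℤ, X (i + 1) → X i → Prop) (x₀ : X 0)
  (up : ∀ (i : ℤ) (x : X i), ∃ y : X (i + 1), Rel i y x)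
  (down : ∀ (i : ℤ) (x : X (i + 1)), ∃ y : X i, Rel i x y)

/-- the upward part -/
noncomputable def upSeq : ∀ n : ℕ, X (Int.ofNat n)
  | 0 => x₀
  | n + 1 => (up (Int.ofNat n) (upSeq n)).choose

/-- the downward part -/
noncomputable def downSeq : ∀ n : ℕ, X (Int.negSucc n)
  | 0 => (down (Int.negSucc 0) x₀).choose
  | n + 1 => (down (Int.negSucc (n + 1)) (downSeq n)).choose

/-- the family -/
noncomputable def seq : ∀ i : ℤ, X i
  | Int.ofNat n => upSeq X Rel x₀ up n
  | Int.negSucc n => downSeq X Rel x₀ down n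

lemma seq_rel : ∀ i : ℤ, Rel i (seq X Rel x₀ up down (i + 1)) (seq X Rel x₀ up down i)
  | Int.ofNat n => (up (Int.ofNat n) (upSeq X Rel x₀ up n)).choose_spec
  | Int.negSucc 0 => (down (Int.negSucc 0) x₀).choose_spec
  | Int.negSucc (n + 1) => (down (Int.negSucc (n + 1)) (downSeq X Rel x₀ down n)).choose_spec

include up down x₀ in
/-- Dependent choice over `ℤ` in both directions. -/
theorem exists_seq : ∃ s : ∀ i : ℤ, X i, ∀ i, Rel i (s (i + 1)) (s i) :=
  ⟨seq X Rel x₀ up down, seq_rel X Rel x₀ up down⟩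

end Rec

section Trans

variable {C : Type u} [Category.{v} C] (G : ℤ → C) (d : ∀ i, G (i + 1) ⟶ G i)

/-- the iterated transition maps -/
def dn (p : ℤ) : ∀ n : ℕ, G (p + n) ⟶ G p
  | 0 => eqToHom (by simp)
  | n + 1 => eqToHom (by rw [Nat.cast_add, Nat.cast_one, add_assoc]) ≫ d (p + n) ≫ dn p n

/-- the transition maps -/
def dd {p q : ℤ} (h : p ≤ q) : G q ⟶ G p :=
  eqToHom (by rw [Int.toNat_of_nonneg (sub_nonneg.2 h), add_sub_cancel]) ≫ dn G d p (q - p).toNat

lemma dd_eq {p q : ℤ} (h : p ≤ q) (n : ℕ) (hn : q = p + n) :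
    dd G d h = eqToHom (by rw [hn]) ≫ dn G d p n := by
  subst hn
  have h1 : ∀ (m : ℕ) (hm : m = n), eqToHom (by rw [hm]) ≫ dn G d p m = dn G d p n := by
    rintro m rfl
    simp
  have h2 : (p + (n : ℤ) - p).toNat = n := by simp
  rw [dd, eqToHom_refl, Category.id_comp]
  exact h1 _ h2

lemma dd_refl (p : ℤ) (h : p ≤ p) : dd G d h = 𝟙 (G p) := by
  rw [dd_eq G d h 0 (by simp), dn, eqToHom_trans, eqToHom_refl]

lemma dd_succ {p q : ℤ} (h : p ≤ q) (h' : p ≤ q + 1) : dd G d h' = d q ≫ dd G d h := by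
  obtain ⟨n, rfl⟩ : ∃ n : ℕ, q = p + n := ⟨(q - p).toNat, by lia⟩
  rw [dd_eq G d h n rfl, dd_eq G d h' (n + 1) (by push_cast; ring), dn, eqToHom_refl,
    Category.id_comp, ← Category.assoc, eqToHom_trans, eqToHom_refl, Category.id_comp]

lemma dd_comp {p q r : ℤ} (h₁ : p ≤ q) (h₂ : q ≤ r) :
    dd G d h₂ ≫ dd G d h₁ = dd G d (h₁.trans h₂) := by
  obtain ⟨n, rfl⟩ : ∃ n : ℕ, r = q + n := ⟨(r - q).toNat, by lia⟩
  induction n with
  | zero =>
    have h3 : ∀ (r : ℤ) (hr : r = q) (h : q ≤ r),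
        dd G d h ≫ dd G d h₁ = dd G d (h₁.trans h) := by
      rintro r rfl h
      rw [dd_refl, Category.id_comp]
    exact h3 _ (by simp) h₂
  | succ n ih =>
    have h3 : ∀ (r : ℤ) (hr : r = q + n + 1) (h : q ≤ r),
        dd G d h ≫ dd G d h₁ = dd G d (h₁.trans h) := by
      rintro r rfl h
      rw [dd_succ G d (show q ≤ q + n by lia), Category.assoc, ih (by lia),
        ← dd_succ]
    exact h3 _ (by push_cast; ring) h₂

lemma dd_one (p : ℤ) (h : p ≤ p + 1) : dd G d h = d p := by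
  rw [dd_succ G d le_rfl, dd_refl, Category.comp_id]

lemma dd_cone {I : C} (φ : ∀ i, G i ⟶ I) (hφ : ∀ i, d i ≫ φ i = φ (i + 1)) {p q : ℤ}
    (h : p ≤ q) : dd G d h ≫ φ p = φ q := by
  obtain ⟨n, rfl⟩ : ∃ n : ℕ, q = p + n := ⟨(q - p).toNat, by lia⟩
  induction n with
  | zero =>
    have h3 : ∀ (r : ℤ) (hr : r = p) (h : p ≤ r), dd G d h ≫ φ p = φ r := by
      rintro r rfl h
      rw [dd_refl, Category.id_comp]
    exact h3 _ (by simp) h
  | succ n ih =>
    have h3 : ∀ (r : ℤ) (hr : r = p + n + 1) (h : p ≤ r), dd G d h ≫ φ p = φ r := by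
      rintro r rfl h
      rw [dd_succ G d (show p ≤ p + n by lia), Category.assoc, ih (by lia), hφ]
    exact h3 _ (by push_cast; ring) h

end Trans

end K234.ZSeq
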