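import Groth.Agent.CohDer.K234.FilRes
import Groth.Agent.CohDer.K234.ZSeq
import Groth.Agent.Cohder.KInjProd
import Mathlib.Algebra.Homology.DerivedCategory.Fractions

/-! Inverse systems in the derived category are represented by filtered complexes. -/

set_option autoImplicit false

universe w' w v u

open CategoryTheory CategoryTheory.Limits HomologicalComplex CochainComplex ZeroObject
open Groth.Agent.CohtopA.KInjRes2 K234.KInjTools K234.FilDiag K234.FilRes
open Groth.Agent.Cohder.KInjProd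

namespace K234.FilRep

variable {A : Type u} [Category.{v} A] [Abelian A]

/-- Homotopy extension along a monomorphism, with target a complex with injective terms. -/
lemma exists_hep {X Y I : CochainComplex A ℤ} (m : X ⟶ Y) [Mono m] (hI : ∀ n, Injective (I.X n))
    (f : Y ⟶ I) (g : X ⟶ I) (h : Homotopy (m ≫ f) g) :
    ∃ f' : Y ⟶ I, m ≫ f' = g ∧ Nonempty (Homotopy f' f) := by
  have : ∀ n, Mono (m.f n) := fun n => inferInstance
  let h' : ∀ i j, Y.X i ⟶ I.X j := fun i j => Injective.factorThru (h.hom i j) (m.f i)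
  have hh' : ∀ i j, m.f i ≫ h' i j = h.hom i j := fun i j => Injective.comp_factorThru _ _
  let h'' : ∀ i j, (ComplexShape.up ℤ).Rel j i → (Y.X i ⟶ I.X j) := fun i j _ => h' i j
  refine ⟨f - Homotopy.nullHomotopicMap' h'', ?_, ⟨?_⟩⟩
  · rw [Preadditive.comp_sub, Homotopy.comp_nullHomotopicMap']
    ext n
    have h1 := h.comm n
    have h2 : (fun i j (hij : (ComplexShape.up ℤ).Rel j i) => m.f i ≫ h'' i j hij) =
        fun i j _ => h.hom i j := by
      ext i j hij
      exact hh' i j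
    rw [h2, HomologicalComplex.sub_f_apply, h1]
    rw [Homotopy.nullHomotopicMap'_f (k₂ := n - 1) (k₁ := n) (k₀ := n + 1) (by simp) (by simp),
      dNext_eq _ (show (ComplexShape.up ℤ).Rel n (n + 1) by simp),
      prevD_eq _ (show (ComplexShape.up ℤ).Rel (n - 1) n by simp)]
    abel
  · have h3 := (Homotopy.refl (f - Homotopy.nullHomotopicMap' h'')).add
      (Homotopy.nullHomotopy' h'')
    exact ((Homotopy.ofEq (sub_add_cancel f _).symm).trans
      (h3.trans (Homotopy.ofEq (add_zero _)))).symm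

variable [HasDerivedCategory.{w'} A]

open DerivedCategory

lemma Q_map_eq_of_homotopy {X Y : CochainComplex A ℤ} {f g : X ⟶ Y} (h : Homotopy f g) :
    Q.map f = Q.map g := by
  have := HomotopyCategory.eq_of_homotopy _ _ h
  exact congrArg Qh.map this

lemma homotopy_of_Q_map_eq {X I : CochainComplex A ℤ} (hI : I.IsKInjective) {f g : X ⟶ I}
    (h : Q.map f = Q.map g) : Nonempty (Homotopy f g) := by
  have h1 : Q.map (f - g) = 0 := by rw [Functor.map_sub, h, sub_self]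
  obtain ⟨h2⟩ := (Q_map_eq_zero_iff hI _).1 h1
  exact ⟨Homotopy.equivSubZero.symm h2⟩

variable {E : DerivedCategory A} {Es : ℤ → DerivedCategory A} (t : ∀ i : ℤ, Es (i + 1) ⟶ Es i)
  (a : ∀ i : ℤ, Es i ⟶ E)
  {I : CochainComplex A ℤ} (e₀ : Q.obj I ≅ E)

/-- A representative of the `i`-th term of the system. -/
structure Stage (i : ℤ) where
  /-- the complex -/
  H : CochainComplex A ℤ
  /-- the map to the representative of the target -/
  φ : H ⟶ I
  /-- the identification -/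
  e : Q.obj H ≅ Es i
  comm : Q.map φ ≫ e₀.hom = e.hom ≫ a i

/-- The relation between representatives of consecutive terms. -/
def Rel (i : ℤ) (x : Stage a e₀ (i + 1)) (y : Stage a e₀ i) : Prop :=
  ∃ d : x.H ⟶ y.H, d ≫ y.φ = x.φ ∧ Q.map d ≫ y.e.hom = x.e.hom ≫ t i

lemma exists_up (hat : ∀ i : ℤ, t i ≫ a i = a (i + 1)) (i : ℤ) (x : Stage a e₀ i) :
    ∃ y : Stage a e₀ (i + 1), Rel t a e₀ i y x := by
  let X := Q.objPreimage (Es (i + 1))
  let eX : Q.obj X ≅ Es (i + 1) := Q.objObjPreimageIso _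
  obtain ⟨X', s, hs, g, hg⟩ := right_fac (eX.hom ≫ t i ≫ x.e.inv)
  have h1 : Q.map g ≫ x.e.hom = (Q.map s ≫ eX.hom) ≫ t i := by
    have h2 : Q.map g = Q.map s ≫ eX.hom ≫ t i ≫ x.e.inv := by
      rw [hg, IsIso.hom_inv_id_assoc]
    rw [h2]
    simp only [Category.assoc, Iso.inv_hom_id, Category.comp_id]
  refine ⟨⟨X', g ≫ x.φ, asIso (Q.map s) ≪≫ eX, ?_⟩, g, rfl, h1⟩
  rw [Functor.map_comp, Category.assoc, x.comm, ← Category.assoc, h1, Category.assoc, hat]
  rfl

lemma exists_down [IsGrothendieckAbelian.{w} A] (hat : ∀ i : ℤ, t i ≫ a i = a (i + 1))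
    (hI : Fibrant I) (i : ℤ) (x : Stage a e₀ (i + 1)) :
    ∃ y : Stage a e₀ i, Rel t a e₀ i x y := by
  have := enoughInjectives.{w} A
  let X := Q.objPreimage (Es i)
  let eX : Q.obj X ≅ Es i := Q.objObjPreimageIso _
  let Y : CochainComplex A ℤ := (R.{w} A).obj X
  have hY : Fibrant Y := fibrant_R _
  have hq : QuasiIso ((η.{w} A).app X) := quasiIso_η X
  have hq' : IsIso (Q.map ((η.{w} A).app X)) := inferInstance
  let eY : Q.obj Y ≅ Es i := (asIso (Q.map ((η.{w} A).app X))).symm ≪≫ eX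
  obtain ⟨δ, hδ⟩ := Q_map_surjective hY.isKInjective (x.e.hom ≫ t i ≫ eY.inv)
  obtain ⟨α, hα⟩ := Q_map_surjective hI.isKInjective (eY.hom ≫ a i ≫ e₀.inv)
  have h1 : Q.map (δ ≫ α) = Q.map x.φ := by
    rw [Functor.map_comp, hδ, hα, ← cancel_mono e₀.hom, x.comm, ← hat]
    simp only [Category.assoc, Iso.inv_hom_id_assoc, Iso.inv_hom_id, Category.comp_id]
  obtain ⟨h2⟩ := homotopy_of_Q_map_eq hI.isKInjective h1
  let U : CochainComplex A ℤ := Injective.under x.H
  let m : x.H ⟶ Y ⊞ U := biprod.lift δ (Injective.ι x.H)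
  have hm : m ≫ biprod.snd = Injective.ι x.H := biprod.lift_snd _ _
  have hm' : m ≫ biprod.fst = δ := biprod.lift_fst _ _
  have : Mono m := by
    have : Mono (m ≫ biprod.snd) := by rw [hm]; infer_instance
    exact mono_of_mono m biprod.snd
  obtain ⟨f', hf', ⟨hh⟩⟩ := exists_hep m hI.injective (biprod.fst ≫ α) x.φ
    ((Homotopy.ofEq (by rw [← Category.assoc, hm'])).trans h2)
  have hQ : QuasiIso (biprod.fst : Y ⊞ U ⟶ Y) := quasiIso_fst Y U
  have hQ' : IsIso (Q.map (biprod.fst : Y ⊞ U ⟶ Y)) := inferInstance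
  refine ⟨⟨Y ⊞ U, f', asIso (Q.map (biprod.fst : Y ⊞ U ⟶ Y)) ≪≫ eY, ?_⟩, m, hf', ?_⟩
  · rw [Q_map_eq_of_homotopy hh, Functor.map_comp, hα]
    simp
  · have h3 : Q.map m ≫ Q.map (biprod.fst : Y ⊞ U ⟶ Y) = Q.map δ := by
      rw [← Functor.map_comp, hm']
    have h4 : Q.map m ≫ (asIso (Q.map (biprod.fst : Y ⊞ U ⟶ Y)) ≪≫ eY).hom =
        (Q.map m ≫ Q.map (biprod.fst : Y ⊞ U ⟶ Y)) ≫ eY.hom := (Category.assoc _ _ _).symm
    refine h4.trans ?_
    rw [h3, hδ]
    simp only [Category.assoc, Iso.inv_hom_id, Category.comp_id]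

/-- Inverse systems in the derived category are represented by filtered complexes. -/
theorem exists_rep [IsGrothendieckAbelian.{w} A]
    (E : DerivedCategory A) (Es : ℤ → DerivedCategory A) (t : ∀ i : ℤ, Es (i + 1) ⟶ Es i)
    (a : ∀ i : ℤ, Es i ⟶ E) (hat : ∀ i : ℤ, t i ≫ a i = a (i + 1)) :
    ∃ (K : SpSeq.FilCx A) (e : DerivedCategory.Q.obj K.obj ≅ E)
      (ei : ∀ i : ℤ, DerivedCategory.Q.obj (K.step i) ≅ Es i),
      (∀ i : ℤ, DerivedCategory.Q.map (K.fil i).arrow ≫ e.hom = (ei i).hom ≫ a i) ∧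
      (∀ i : ℤ, DerivedCategory.Q.map (K.stepLE (le_of_lt (Int.lt_succ_self i))) ≫ (ei i).hom =
        (ei (i + 1)).hom ≫ t i) := by
  have := enoughInjectives.{w} A
  have := hasLimits₀.{w} A
  let M := Q.objPreimage E
  let I : CochainComplex A ℤ := (R.{w} A).obj M
  have hI : Fibrant I := fibrant_R _
  have hq : QuasiIso ((η.{w} A).app M) := quasiIso_η M
  have hq' : IsIso (Q.map ((η.{w} A).app M)) := inferInstance
  let e₀ : Q.obj I ≅ E := (asIso (Q.map ((η.{w} A).app M))).symm ≪≫ Q.objObjPreimageIso _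
  obtain ⟨x₀⟩ : Nonempty (Stage a e₀ 0) := by
    obtain ⟨α, hα⟩ := Q_map_surjective hI.isKInjective
      ((Q.objObjPreimageIso (Es 0)).hom ≫ a 0 ≫ e₀.inv)
    exact ⟨⟨_, α, Q.objObjPreimageIso (Es 0), by rw [hα]; simp⟩⟩
  obtain ⟨s, hs⟩ := ZSeq.exists_seq (Stage a e₀) (Rel t a e₀) x₀
    (fun i x => exists_up t a e₀ hat i x) (fun i x => exists_down.{w', w} t a e₀ hat hI i x)
  choose d hd hd' using hs
  let D : Diag A :=
    { G := fun i => (s i).H
      dd := fun h => ZSeq.dd (fun i => (s i).H) d h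
      dd_id := fun p h => ZSeq.dd_refl _ _ p h
      dd_comp := fun h₁ h₂ => ZSeq.dd_comp _ _ h₁ h₂
      I := I
      φ := fun i => (s i).φ
      φ_comp := fun h => ZSeq.dd_cone (fun i => (s i).H) d (fun i => (s i).φ) hd h
      E := fun i => Injective.under (s i).H
      e := fun i => Injective.ι _
      mono_e := fun i => inferInstance
      injE := fun i => inferInstance }
  let r : D.fil.obj ⟶ I := (biprod.fst : D.J ⟶ I)
  have q1 : QuasiIso r := quasiIso_fst D.I (∏ᶜ D.E)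
  have q1' : IsIso (Q.map r) := inferInstance
  have q2 : ∀ p, QuasiIso (biprod.fst : D.F p ⟶ D.G p) := fun p =>
    quasiIso_fst (D.G p) (∏ᶜ (fun r : {r : ℤ // p < r} => D.E r.1))
  let q : ∀ p, D.fil.step p ⟶ (s p).H := fun p => (D.stepIso p).hom ≫ (biprod.fst : D.F p ⟶ D.G p)
  have q3 : ∀ p, QuasiIso (q p) := fun p => by
    have := q2 p
    exact inferInstanceAs (QuasiIso ((D.stepIso p).hom ≫ (biprod.fst : D.F p ⟶ D.G p)))
  have q3' : ∀ p, IsIso (Q.map (q p)) := fun p => inferInstance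
  have c1 : ∀ p, (D.fil.fil p).arrow ≫ r = q p ≫ (s p).φ := fun p => by
    have h1 : (D.stepIso p).hom ≫ D.m p ≫ biprod.fst =
        (D.stepIso p).hom ≫ biprod.fst ≫ D.φ p := by rw [D.m_fst]
    exact ((congrArg (fun z => z ≫ (biprod.fst : D.J ⟶ I)) (D.stepIso_hom_m p)).symm.trans
      (Category.assoc _ _ _)).trans (h1.trans (Category.assoc _ _ _).symm)
  have c2 : ∀ p, D.fil.stepLE (le_of_lt (Int.lt_succ_self p)) ≫ q p = q (p + 1) ≫ d p := fun p => by
    have h1 := D.stepLE_comp (le_of_lt (Int.lt_succ_self p))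
    have h2 : D.dd (le_of_lt (Int.lt_succ_self p)) = d p :=
      ZSeq.dd_one (fun i => (s i).H) d p (le_of_lt (Int.lt_succ_self p))
    have h3 : D.t (le_of_lt (Int.lt_succ_self p)) ≫ biprod.fst =
        biprod.fst ≫ D.dd (le_of_lt (Int.lt_succ_self p)) := biprod.lift_fst _ _
    have h4 : D.fil.stepLE (le_of_lt (Int.lt_succ_self p)) ≫ (D.stepIso p).hom ≫
        (biprod.fst : D.F p ⟶ D.G p) =
        (D.stepIso (p + 1)).hom ≫ (biprod.fst : D.F (p + 1) ⟶ D.G (p + 1)) ≫ d p := by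
      rw [← Category.assoc, h1, Category.assoc, h3, h2]
      rfl
    exact h4.trans (Category.assoc _ _ _).symm
  refine ⟨D.fil, asIso (Q.map r) ≪≫ e₀,
    fun i => asIso (Q.map (q i)) ≪≫ (s i).e, fun i => ?_, fun i => ?_⟩
  · have h1 : Q.map (D.fil.fil i).arrow ≫ Q.map r = Q.map (q i) ≫ Q.map (s i).φ := by
      rw [← Functor.map_comp, ← Functor.map_comp, c1]
    calc Q.map (D.fil.fil i).arrow ≫ Q.map r ≫ e₀.hom
        = (Q.map (D.fil.fil i).arrow ≫ Q.map r) ≫ e₀.hom := (Category.assoc _ _ _).symm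
      _ = (Q.map (q i) ≫ Q.map (s i).φ) ≫ e₀.hom := congrArg (fun z => z ≫ e₀.hom) h1
      _ = Q.map (q i) ≫ (s i).e.hom ≫ a i := by rw [Category.assoc, (s i).comm]
      _ = (Q.map (q i) ≫ (s i).e.hom) ≫ a i := (Category.assoc _ _ _).symm
  · have h1 : Q.map (D.fil.stepLE (le_of_lt (Int.lt_succ_self i))) ≫ Q.map (q i) =
        Q.map (q (i + 1)) ≫ Q.map (d i) := by
      rw [← Functor.map_comp, ← Functor.map_comp, c2]
      rfl
    have h2 : Q.map (D.fil.stepLE (le_of_lt (Int.lt_succ_self i))) ≫ Q.map (q i) ≫ (s i).e.hom =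
        (Q.map (D.fil.stepLE (le_of_lt (Int.lt_succ_self i))) ≫ Q.map (q i)) ≫ (s i).e.hom :=
      (Category.assoc _ _ _).symm
    refine h2.trans ((congrArg (fun z => z ≫ (s i).e.hom) h1).trans ?_)
    have h3 : (Q.map (q (i + 1)) ≫ Q.map (d i)) ≫ (s i).e.hom =
        Q.map (q (i + 1)) ≫ (s (i + 1)).e.hom ≫ t i := by rw [Category.assoc, hd']
    exact h3.trans (Category.assoc _ _ _).symm

end K234.FilRep
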