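import Groth.Agent.CohDer.K234.FilDiag

/-! Filtered complexes with fibrant steps; filtered fibrant replacement of a filtered complex. -/

set_option autoImplicit false

universe w v u

open CategoryTheory CategoryTheory.Limits HomologicalComplex CochainComplex ZeroObject
open Groth.Agent.CohtopA.KInjRes2 K234.KInjTools K234.FilDiag

namespace K234.FilRes

variable {A : Type u} [Category.{v} A] [Abelian A]

section Fib

lemma shortExact_cokernel {C : Type*} [Category* C] [Abelian C] {X Y : C} (f : X ⟶ Y) [Mono f] :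
    (ShortComplex.mk f (cokernel.π f) (cokernel.condition f)).ShortExact where
  exact := ShortComplex.exact_cokernel f

lemma injective_cokernel {C : Type*} [Category* C] [Abelian C] {X Y : C} (f : X ⟶ Y) [Mono f]
    (hX : Injective X) (hY : Injective Y) : Injective (cokernel f) :=
  injective_of_shortExact (S := ShortComplex.mk f (cokernel.π f) (cokernel.condition f))
    (shortExact_cokernel f)

lemma isKInjective_cokernel {X Y : CochainComplex A ℤ} (f : X ⟶ Y) [Mono f]
    (hX : Fibrant X) (hY : Y.IsKInjective) : (cokernel f).IsKInjective :=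
  isKInjective_of_shortExact (S := ShortComplex.mk f (cokernel.π f) (cokernel.condition f))
    (shortExact_cokernel f) hX.isKInjective hY hX.injective

/-- The map induced on cokernels of monomorphisms by a pair of quasi-isomorphisms is a
quasi-isomorphism. -/
lemma quasiIso_cokernel {X Y X' Y' : CochainComplex A ℤ} (f : X ⟶ Y) (f' : X' ⟶ Y') [Mono f]
    [Mono f'] (a : X ⟶ X') (b : Y ⟶ Y') (c : cokernel f ⟶ cokernel f') (h₁ : f ≫ b = a ≫ f')
    (h₂ : cokernel.π f ≫ c = b ≫ cokernel.π f') (ha : QuasiIso a) (hb : QuasiIso b) :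
    QuasiIso c := by
  let S₁ := ShortComplex.mk f (cokernel.π f) (cokernel.condition f)
  let S₂ := ShortComplex.mk f' (cokernel.π f') (cokernel.condition f')
  let φ : S₁ ⟶ S₂ :=
    { τ₁ := a
      τ₂ := b
      τ₃ := c
      comm₁₂ := h₁.symm
      comm₂₃ := h₂.symm }
  exact HomologicalComplex.HomologySequence.quasiIso_τ₃ φ (shortExact_cokernel f)
    (shortExact_cokernel f') ha hb

lemma le_pullback {C : Type*} [Category* C] [HasPullbacks C] {X Y : C} (f : X ⟶ Y)
    (P : Subobject X) (Q : Subobject Y) (g : (P : C) ⟶ (Q : C))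
    (h : g ≫ Q.arrow = P.arrow ≫ f) : P ≤ (Subobject.pullback f).obj Q := by
  rw [Subobject.pullback_obj]
  exact Subobject.le_mk_of_comm (pullback.lift g P.arrow h) (pullback.lift_snd _ _ _)

variable (J : SpSeq.FilCx A)

/-- `F^p(K^n)` is the degree `n` part of `F^p K`. -/
noncomputable def XFilIso (n p : ℤ) : (J.XFil n).step p ≅ (J.step p).X n :=
  Subobject.underlyingIso ((J.fil p).arrow.f n)

lemma injective_of_fibrant (h : Fibrant J.obj) (hs : ∀ p, Fibrant (J.step p)) (n p : ℤ) :
    Injective (J.obj.X n) ∧ Injective ((J.XFil n).step p) ∧ Injective ((J.XFil n).quot p) ∧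
        ∀ (p' : ℤ) (h : p ≤ p'), Injective (cokernel ((J.XFil n).stepLE h)) := by
  have h1 : ∀ p, Injective ((J.XFil n).step p) := fun p => by
    have := (hs p).injective n
    exact Injective.of_iso (XFilIso J n p).symm this
  have h2 : Injective (J.obj.X n) := h.injective n
  refine ⟨h2, h1 p, injective_cokernel ((J.XFil n).fil p).arrow (h1 p) h2, fun p' h => ?_⟩
  exact injective_cokernel _ (h1 p') (h1 p)

lemma isKInjective_of_fibrant (h : Fibrant J.obj) (hs : ∀ p, Fibrant (J.step p)) :
    CochainComplex.IsKInjective J.obj ∧ ∀ p : ℤ, CochainComplex.IsKInjective (J.step p) ∧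
        CochainComplex.IsKInjective (J.quot p) ∧
        ∀ (p' : ℤ) (h : p ≤ p'), CochainComplex.IsKInjective (cokernel (J.stepLE h)) :=
  ⟨h.isKInjective, fun p => ⟨(hs p).isKInjective,
    isKInjective_cokernel _ (hs p) h.isKInjective,
    fun p' _ => isKInjective_cokernel _ (hs p') (hs p).isKInjective⟩⟩

end Fib

section Emb

variable [HasLimitsOfSize.{0, 0} (CochainComplex A ℤ)] (K : SpSeq.FilCx A) (D : Diag A)

/-- A strict morphism from a filtered complex to a diagram. -/
structure Emb where
  /-- the map on the complex -/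
  a : K.obj ⟶ D.I
  /-- the maps on the steps -/
  b : ∀ p, K.step p ⟶ D.G p
  b_dd : ∀ {p q : ℤ} (h : p ≤ q), b q ≫ D.dd h = K.stepLE h ≫ b p
  b_φ : ∀ p, b p ≫ D.φ p = (K.fil p).arrow ≫ a

namespace Emb

variable {K D} (T : Emb K D)

/-- the extensions to the injective hulls -/
noncomputable def ε (r : ℤ) : K.obj ⟶ D.E r :=
  Injective.factorThru (T.b r ≫ D.e r) (K.fil r).arrow

omit [HasLimitsOfSize.{0, 0} (CochainComplex A ℤ)] in
@[reassoc]
lemma arrow_ε (r : ℤ) : (K.fil r).arrow ≫ T.ε r = T.b r ≫ D.e r :=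
  Injective.comp_factorThru _ _

/-- the embedding -/
noncomputable def j : K.obj ⟶ D.J := biprod.lift T.a (Pi.lift (fun r => T.ε r))

/-- the embedding on steps -/
noncomputable def js (p : ℤ) : K.step p ⟶ D.F p :=
  biprod.lift (T.b p) (Pi.lift (fun r => (K.fil p).arrow ≫ T.ε r.1))

@[reassoc]
lemma j_fst : T.j ≫ biprod.fst = T.a := biprod.lift_fst _ _

@[reassoc]
lemma js_fst (p : ℤ) : T.js p ≫ biprod.fst = T.b p := biprod.lift_fst _ _

lemma js_m (p : ℤ) : T.js p ≫ D.m p = (K.fil p).arrow ≫ T.j := by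
  apply D.J_hom_ext
  · rw [Category.assoc, Category.assoc, Diag.m_fst, js_fst_assoc, j_fst, T.b_φ]
  · intro r
    rw [Category.assoc, Category.assoc, Diag.m_snd_π, j, biprod.lift_snd_assoc, Limits.Pi.lift_π]
    by_cases hr : p < r
    · rw [Diag.comp_of_lt _ hr, js, biprod.lift_snd_assoc, Limits.Pi.lift_π]
    · rw [not_lt] at hr
      have h1 : K.stepLE hr ≫ (K.fil r).arrow = (K.fil p).arrow := Subobject.ofLE_arrow _
      rw [Diag.comp_of_le _ hr, js_fst_assoc, ← h1, Category.assoc, arrow_ε,
        ← Category.assoc, ← Category.assoc, T.b_dd]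

lemma quasiIso_j (h : QuasiIso T.a) : QuasiIso T.j := by
  have h3 : QuasiIso (T.j ≫ biprod.fst) := by rw [j_fst]; exact h
  have h4 := quasiIso_fst D.I (∏ᶜ D.E)
  exact quasiIso_of_comp_right _ (biprod.fst : D.J ⟶ _)

lemma quasiIso_js (p : ℤ) (h : QuasiIso (T.b p)) : QuasiIso (T.js p) := by
  have h3 : QuasiIso (T.js p ≫ biprod.fst) := by rw [js_fst]; exact h
  have h4 := quasiIso_fst (D.G p) (∏ᶜ (fun r : {r : ℤ // p < r} => D.E r.1))
  exact quasiIso_of_comp_right _ (biprod.fst : D.F p ⟶ _)

/-- the embedding on steps, as subobjects -/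
noncomputable def js' (p : ℤ) : K.step p ⟶ D.fil.step p :=
  T.js p ≫ (D.stepIso p).inv

lemma quasiIso_js' (p : ℤ) (h : QuasiIso (T.b p)) : QuasiIso (T.js' p) := by
  have := T.quasiIso_js p h
  exact inferInstanceAs (QuasiIso (T.js p ≫ (D.stepIso p).inv))

lemma js'_arrow (p : ℤ) :
    T.js' p ≫ (D.fil.fil p).arrow = (K.fil p).arrow ≫ (show K.obj ⟶ D.fil.obj from T.j) :=
  (Category.assoc _ _ _).trans
    ((congrArg (fun z => T.js p ≫ z) (Diag.stepIso_inv_arrow _ p)).trans (T.js_m p))

/-- the morphism of filtered complexes -/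
noncomputable def jHom : K ⟶ D.fil where
  hom := T.j
  compat p := le_pullback (X := K.obj) (Y := D.fil.obj) T.j _ _ (T.js' p) (T.js'_arrow p)

end Emb

end Emb

section Rep

variable [IsGrothendieckAbelian.{w} A]

variable (A) in
lemma hasLimits₀ : HasLimitsOfSize.{0, 0} (CochainComplex A ℤ) :=
  have : HasLimitsOfSize.{w, w} (CochainComplex A ℤ) := IsGrothendieckAbelian.hasLimits _
  hasLimitsOfSizeShrink.{0, 0, w, w} _

variable (A) in
lemma enoughInjectives : EnoughInjectives (CochainComplex A ℤ) :=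
  IsGrothendieckAbelian.enoughInjectives.{w}

variable [EnoughInjectives (CochainComplex A ℤ)]

/-- The diagram of fibrant replacements of the steps. -/
noncomputable def diag (K : SpSeq.FilCx A) : Diag A where
  G p := (R.{w} A).obj (K.step p)
  dd h := (R.{w} A).map (K.stepLE h)
  dd_id p h := by
    have h1 : K.stepLE h = 𝟙 (K.step p) := Subobject.ofLE_refl _
    rw [h1]
    exact (R.{w} A).map_id _
  dd_comp h₁ h₂ := by
    have h1 : K.stepLE h₂ ≫ K.stepLE h₁ = K.stepLE (h₁.trans h₂) := Subobject.ofLE_comp_ofLE _ _ _ _ _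
    rw [← Functor.map_comp, h1]
  I := (R.{w} A).obj K.obj
  φ p := (R.{w} A).map (K.fil p).arrow
  φ_comp {p q} h := by
    have h1 : K.stepLE h ≫ (K.fil p).arrow = (K.fil q).arrow := Subobject.ofLE_arrow _
    rw [← Functor.map_comp, h1]
  E r := Injective.under ((R.{w} A).obj (K.step r))
  e r := Injective.ι _
  mono_e _ := inferInstance
  injE _ := inferInstance

/-- The embedding of a filtered complex into its fibrant replacement. -/
noncomputable def emb (K : SpSeq.FilCx A) : Emb K (diag.{w} K) where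
  a := (η.{w} A).app K.obj
  b p := (η.{w} A).app (K.step p)
  b_dd _ := (KInjTools.η_naturality _).symm
  b_φ _ := (KInjTools.η_naturality _).symm

variable (K : SpSeq.FilCx A)

variable [HasLimitsOfSize.{0, 0} (CochainComplex A ℤ)]

lemma fibrant_diag_J : Fibrant (diag.{w} K).fil.obj :=
  Fibrant.biprod (fibrant_R _) (fibrant_of_injective _)

lemma fibrant_diag_step (p : ℤ) : Fibrant ((diag.{w} K).fil.step p) :=
  Fibrant.of_iso ((diag.{w} K).stepIso p).symm
    (Fibrant.biprod (fibrant_R _) (fibrant_of_injective _))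

end Rep

/-- Filtered complexes embed quasi-isomorphically into filtered complexes with fibrant steps. -/
theorem exists_fibrant_filtered [IsGrothendieckAbelian.{w} A] (K : SpSeq.FilCx A) :
    ∃ (J : SpSeq.FilCx A) (j : K ⟶ J), Fibrant J.obj ∧ (∀ p, Fibrant (J.step p)) ∧
      QuasiIso j.hom ∧
      ∀ p, ∃ jp : K.step p ⟶ J.step p,
        jp ≫ (J.fil p).arrow = (K.fil p).arrow ≫ j.hom ∧ QuasiIso jp := by
  have := hasLimits₀.{w} A
  have := enoughInjectives.{w} A
  exact ⟨(diag.{w} K).fil, (emb.{w} K).jHom, fibrant_diag_J.{w} K, fibrant_diag_step.{w} K,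
    (emb.{w} K).quasiIso_j (quasiIso_η.{w} K.obj),
    fun p => ⟨(emb.{w} K).js' p, (emb.{w} K).js'_arrow p,
      (emb.{w} K).quasiIso_js' p (quasiIso_η.{w} (K.step p))⟩⟩

end K234.FilRes
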