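import Groth.Agent.CohDer.K234.Raw
import Mathlib.Algebra.Homology.HomologicalComplex

/-! Morphisms of Postnikov systems: vanishing, existence and uniqueness. -/

set_option autoImplicit false

universe v u

open CategoryTheory CategoryTheory.Limits CategoryTheory.Pretriangulated K234.Raw

namespace K234.Postnikov

variable {D : Type u} [Category.{v} D] [Preadditive D] [HasZeroObject D] [HasShift D ℤ]
    [∀ n : ℤ, (shiftFunctor D n).Additive] [Pretriangulated D]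

/-- If maps from all `T[1]` to the third object vanish, maps from `T` to the first object
are detected by the second. -/
lemma eq_zero_of_comp_eq_zero {X Y Z : D} {f : X ⟶ Y} {g : Y ⟶ Z} {h : Z ⟶ X⟦(1 : ℤ)⟧}
    (hT : Dist f g h) {T : D} (hv : ∀ t : (shiftFunctor D (1 : ℤ)).obj T ⟶ Z, t = 0)
    (φ : T ⟶ X) (hφ : φ ≫ f = 0) : φ = 0 := by
  obtain ⟨t, ht⟩ := coyoneda₁' hT φ hφ
  rw [hv t, Limits.zero_comp] at ht
  exact (shiftFunctor D (1 : ℤ)).map_injective (by rw [ht, Functor.map_zero])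

/-- Vanishing of maps into the terms of a Postnikov system. -/
lemma hom_vanishing (X X' : ChainComplex D ℕ) (n : ℕ)
    (Y : ℕ → D) (a : ∀ k, Y k ⟶ X'.X k) (b : ∀ k, X'.X (k + 1) ⟶ Y k)
    (c : ∀ k, Y k ⟶ (shiftFunctor D (1 : ℤ)).obj (Y (k + 1)))
    (h0 : IsIso (a 0))
    (hP : ∀ k, k < n → Dist (a (k + 1)) (b k) (c k))
    (hX : ∀ i j : ℕ, j + 1 < i → i ≤ n →
      ∀ ψ : (shiftFunctor D ((i : ℤ) - j - 1)).obj (X.X i) ⟶ X'.X j, ψ = 0) (i : ℕ) (hi : i ≤ n) :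
    ∀ (j : ℕ), j + 1 < i → ∀ (s : ℤ), s = (i : ℤ) - j - 1 →
      ∀ ψ : (shiftFunctor D s).obj (X.X i) ⟶ Y j, ψ = 0 := by
  intro j
  induction j with
  | zero =>
    intro hij s hs ψ
    subst hs
    rw [← cancel_mono (a 0), zero_comp]
    exact hX i 0 hij hi _
  | succ j ih =>
    intro hij s hs ψ
    apply eq_zero_of_comp_eq_zero (hP j (by lia))
    · intro t
      have h4 := ih (by lia) (s + 1) (by rw [hs]; push_cast; lia)
        ((shiftFunctorAdd D s 1).hom.app (X.X i) ≫ t)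
      rw [← cancel_epi ((shiftFunctorAdd D s 1).hom.app (X.X i)), Limits.comp_zero]
      exact h4
    · subst hs
      exact hX i (j + 1) hij hi _

/-- The step of the construction of a morphism of Postnikov systems. -/
lemma exists_step (X X' : ChainComplex D ℕ) (φ : X ⟶ X') (n : ℕ)
    (Y : ℕ → D) (a : ∀ k, Y k ⟶ X.X k) (b : ∀ k, X.X (k + 1) ⟶ Y k)
    (c : ∀ k, Y k ⟶ (shiftFunctor D (1 : ℤ)).obj (Y (k + 1)))
    (hP : ∀ k, k < n → Dist (a (k + 1)) (b k) (c k) ∧ b k ≫ a k = X.d (k + 1) k)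
    (qY : ℕ → D) (qa : ∀ k, qY k ⟶ X'.X k) (qb : ∀ k, X'.X (k + 1) ⟶ qY k)
    (qc : ∀ k, qY k ⟶ (shiftFunctor D (1 : ℤ)).obj (qY (k + 1)))
    (qh0 : IsIso (qa 0))
    (qhP : ∀ k, k < n → Dist (qa (k + 1)) (qb k) (qc k) ∧ qb k ≫ qa k = X'.d (k + 1) k)
    (hX : ∀ i j : ℕ, j + 1 < i → i ≤ n →
      ∀ ψ : (shiftFunctor D ((i : ℤ) - j - 1)).obj (X.X i) ⟶ X'.X j, ψ = 0)
    (k : ℕ) (y : Y k ⟶ qY k) (hy : k ≤ n → y ≫ qa k = a k ≫ φ.f k) :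
    ∃ y' : Y (k + 1) ⟶ qY (k + 1), (k + 1 ≤ n → y' ≫ qa (k + 1) = a (k + 1) ≫ φ.f (k + 1)) ∧
      (k < n → b k ≫ y = φ.f (k + 1) ≫ qb k ∧
        c k ≫ (shiftFunctor D (1 : ℤ)).map y' = y ≫ qc k) := by
  by_cases hk : k < n
  · have hb : b k ≫ y = φ.f (k + 1) ≫ qb k := by
      rw [← sub_eq_zero]
      have h1 : (b k ≫ y - φ.f (k + 1) ≫ qb k) ≫ qa k = 0 := by
        rw [Preadditive.sub_comp, Category.assoc, Category.assoc, hy hk.le, (qhP k hk).2,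
          ← Category.assoc, (hP k hk).2, φ.comm, sub_self]
      rcases k with _ | k
      · exact (cancel_mono (qa 0)).1 (h1.trans zero_comp.symm)
      · refine eq_zero_of_comp_eq_zero (qhP k (by lia)).1 ?_ _ h1
        intro t
        exact hom_vanishing X X' n qY qa qb qc qh0 (fun k hk => (qhP k hk).1) hX (k + 1 + 1) hk k
          (by lia) 1 (by push_cast; lia) t
    obtain ⟨y', h1, h2⟩ := complete₁ (hP k hk).1 (qhP k hk).1 (φ.f (k + 1)) y hb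
    exact ⟨y', fun _ => h1.symm, fun _ => ⟨hb, h2⟩⟩
  · exact ⟨0, fun h => absurd h (by lia), fun h => absurd h hk⟩

/-- Existence of a morphism of Postnikov systems. -/
theorem exists_morphism (X X' : ChainComplex D ℕ) (φ : X ⟶ X') (n : ℕ)
    (Y : ℕ → D) (a : ∀ k, Y k ⟶ X.X k) (b : ∀ k, X.X (k + 1) ⟶ Y k)
    (c : ∀ k, Y k ⟶ (shiftFunctor D (1 : ℤ)).obj (Y (k + 1)))
    (hP : ∀ k, k < n → Dist (a (k + 1)) (b k) (c k) ∧ b k ≫ a k = X.d (k + 1) k)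
    (qY : ℕ → D) (qa : ∀ k, qY k ⟶ X'.X k) (qb : ∀ k, X'.X (k + 1) ⟶ qY k)
    (qc : ∀ k, qY k ⟶ (shiftFunctor D (1 : ℤ)).obj (qY (k + 1)))
    (qh0 : IsIso (qa 0))
    (qhP : ∀ k, k < n → Dist (qa (k + 1)) (qb k) (qc k) ∧ qb k ≫ qa k = X'.d (k + 1) k)
    (hX : ∀ i j : ℕ, j + 1 < i → i ≤ n →
      ∀ ψ : (shiftFunctor D ((i : ℤ) - j - 1)).obj (X.X i) ⟶ X'.X j, ψ = 0) :
    ∃ y : ∀ k, Y k ⟶ qY k,
      (∀ k, k ≤ n → y k ≫ qa k = a k ≫ φ.f k) ∧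
      (∀ k, k < n → b k ≫ y k = φ.f (k + 1) ≫ qb k ∧
        c k ≫ (shiftFunctor D (1 : ℤ)).map (y (k + 1)) = y k ≫ qc k) := by
  have step := exists_step X X' φ n Y a b c hP qY qa qb qc qh0 qhP hX
  let st : (k : ℕ) → {y : Y k ⟶ qY k // k ≤ n → y ≫ qa k = a k ≫ φ.f k} := fun k =>
    Nat.rec (motive := fun k => {y : Y k ⟶ qY k // k ≤ n → y ≫ qa k = a k ≫ φ.f k})
      ⟨a 0 ≫ φ.f 0 ≫ inv (qa 0), fun _ => by simp⟩
      (fun k p => ⟨(step k p.1 p.2).choose, (step k p.1 p.2).choose_spec.1⟩) k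
  exact ⟨fun k => (st k).1, fun k => (st k).2,
    fun k hk => (step k (st k).1 (st k).2).choose_spec.2 hk⟩

/-- The vanishing used for uniqueness. -/
lemma comp_eq_zero (X : ChainComplex D ℕ) (n : ℕ)
    (Y : ℕ → D) (a : ∀ k, Y k ⟶ X.X k) (b : ∀ k, X.X (k + 1) ⟶ Y k)
    (c : ∀ k, Y k ⟶ (shiftFunctor D (1 : ℤ)).obj (Y (k + 1)))
    (hP : ∀ k, k < n → Dist (a (k + 1)) (b k) (c k))
    (qY : ℕ → D) (qc : ∀ k, qY k ⟶ (shiftFunctor D (1 : ℤ)).obj (qY (k + 1)))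
    (w : ∀ k, Y k ⟶ qY k) (hw0 : w 0 = 0)
    (hw : ∀ k, k < n → c k ≫ (shiftFunctor D (1 : ℤ)).map (w (k + 1)) = w k ≫ qc k)
    (S : D) (hS : ∀ i : ℕ, 1 ≤ i → i ≤ n → ∀ (s : ℤ), s = -(i : ℤ) → ∀ v : X.X i ⟶ S⟦s⟧, v = 0)
    (k : ℕ) : k ≤ n → ∀ (s : ℤ), s = -(k : ℤ) → ∀ t : qY k ⟶ S⟦s⟧, w k ≫ t = 0 := by
  induction k with
  | zero =>
    intro _ s _ t
    rw [hw0, zero_comp]
  | succ k ih =>
    intro hk s hs t
    have h1 : c k ≫ (w (k + 1) ≫ t)⟦(1 : ℤ)⟧' = 0 := by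
      have h2 := ih (by lia) (s + 1) (by rw [hs]; push_cast; lia)
        (qc k ≫ t⟦(1 : ℤ)⟧' ≫ (shiftFunctorAdd D s 1).inv.app S)
      rw [← Category.assoc, ← hw k (by lia)] at h2
      rw [← cancel_mono ((shiftFunctorAdd D s 1).inv.app S), zero_comp, ← h2]
      simp
    obtain ⟨v, hv⟩ := yoneda₁ (hP k (by lia)) _ h1
    rw [hv, hS (k + 1) (by lia) hk s hs v, comp_zero]

/-- Uniqueness of the top component of a morphism of Postnikov systems. -/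
theorem unique_top (X X' : ChainComplex D ℕ) (φ : X ⟶ X') (n : ℕ)
    (Y : ℕ → D) (a : ∀ k, Y k ⟶ X.X k) (b : ∀ k, X.X (k + 1) ⟶ Y k)
    (c : ∀ k, Y k ⟶ (shiftFunctor D (1 : ℤ)).obj (Y (k + 1)))
    (hP : ∀ k, k < n → Dist (a (k + 1)) (b k) (c k))
    (qY : ℕ → D) (qa : ∀ k, qY k ⟶ X'.X k) (qb : ∀ k, X'.X (k + 1) ⟶ qY k)
    (qc : ∀ k, qY k ⟶ (shiftFunctor D (1 : ℤ)).obj (qY (k + 1)))
    (qh0 : IsIso (qa 0))
    (hv : ∀ i : ℕ, 1 ≤ i → i ≤ n → ∀ ψ : (shiftFunctor D (i : ℤ)).obj (X.X i) ⟶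
      (shiftFunctor D (n : ℤ)).obj (qY n), ψ = 0)
    (y z : ∀ k, Y k ⟶ qY k)
    (hy : (∀ k, k ≤ n → y k ≫ qa k = a k ≫ φ.f k) ∧
      (∀ k, k < n → b k ≫ y k = φ.f (k + 1) ≫ qb k ∧
        c k ≫ (shiftFunctor D (1 : ℤ)).map (y (k + 1)) = y k ≫ qc k))
    (hz : (∀ k, k ≤ n → z k ≫ qa k = a k ≫ φ.f k) ∧
      (∀ k, k < n → b k ≫ z k = φ.f (k + 1) ≫ qb k ∧
        c k ≫ (shiftFunctor D (1 : ℤ)).map (z (k + 1)) = z k ≫ qc k)) :
    y n = z n := by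
  rw [← sub_eq_zero]
  let e : qY n ≅ ((qY n)⟦(n : ℤ)⟧)⟦-(n : ℤ)⟧ :=
    ((shiftFunctorCompIsoId D (n : ℤ) (-(n : ℤ)) (by lia)).app (qY n)).symm
  have h := comp_eq_zero X n Y a b c hP qY qc (fun k => y k - z k)
    (by
      change y 0 - z 0 = 0
      rw [← cancel_mono (qa 0), zero_comp, Preadditive.sub_comp, hy.1 0 (by lia), hz.1 0 (by lia),
        sub_self])
    (fun k hk => by
      change c k ≫ (shiftFunctor D (1 : ℤ)).map (y (k + 1) - z (k + 1)) = (y k - z k) ≫ qc k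
      rw [Functor.map_sub, Preadditive.comp_sub, Preadditive.sub_comp, (hy.2 k hk).2, (hz.2 k hk).2])
    ((qY n)⟦(n : ℤ)⟧)
    (fun i h1 h2 s hs v => by
      subst hs
      have h3 := hv i h1 h2 (v⟦(i : ℤ)⟧' ≫
        (shiftFunctorCompIsoId D (-(i : ℤ)) (i : ℤ) (by lia)).hom.app _)
      have h4 := (cancel_mono ((shiftFunctorCompIsoId D (-(i : ℤ)) (i : ℤ) (by lia)).hom.app _)).1
        (h3.trans zero_comp.symm)
      exact (shiftFunctor D (i : ℤ)).map_injective (by rw [h4, Functor.map_zero]))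
    n le_rfl (-(n : ℤ)) rfl e.hom
  exact (cancel_mono e.hom).1 (h.trans zero_comp.symm)

end K234.Postnikov
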