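import Groth.Agent.CohDer.K234.Raw
import Groth.Prelude.Def_DerCA

/-! Pro-isomorphisms of inverse systems indexed by `ℕ` in a preadditive category, tested by the
colimits of the groups `Hom(X_n, E)`; the five lemma for systems of distinguished triangles. -/

set_option autoImplicit false

universe v u v' u'

open CategoryTheory CategoryTheory.Limits CategoryTheory.Pretriangulated Opposite K234.Raw

namespace K234.Pro

section Cat

variable {C : Type u} [Category.{v} C]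

lemma tr_trans (X : ARSys.PS C) {a b c : ℕ} (h : a ≤ b) (h' : b ≤ c) :
    ARSys.tr X h' ≫ ARSys.tr X h = ARSys.tr X (h.trans h') := by
  change X.map _ ≫ X.map _ = X.map _
  rw [← X.map_comp]
  rfl

@[reassoc]
lemma tr_trans' (X : ARSys.PS C) {a b c : ℕ} (h : a ≤ b) (h' : b ≤ c) (h'' : a ≤ c) :
    ARSys.tr X h' ≫ ARSys.tr X h = ARSys.tr X h'' := tr_trans X h h'

lemma tr_self (X : ARSys.PS C) {a : ℕ} (h : a ≤ a) : ARSys.tr X h = 𝟙 _ := X.map_id _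

@[reassoc]
lemma tr_nat {X Y : ARSys.PS C} (f : X ⟶ Y) {a b : ℕ} (h : a ≤ b) :
    ARSys.tr X h ≫ f.app (op a) = f.app (op b) ≫ ARSys.tr Y h := f.naturality _

end Cat

section Crit

variable {C : Type u} [Category.{v} C] [Preadditive C] {X Y : ARSys.PS C} (a : X ⟶ Y)

/-- `colim Hom(Y_n, E) ⟶ colim Hom(X_n, E)` is injective for all `E`. -/
def Inj : Prop := ∀ (n : ℕ) (E : C) (φ : Y.obj (op n) ⟶ E), a.app (op n) ≫ φ = 0 →
  ∃ (m : ℕ) (h : n ≤ m), ARSys.tr Y h ≫ φ = 0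

/-- `colim Hom(Y_n, E) ⟶ colim Hom(X_n, E)` is surjective for all `E`. -/
def Surj : Prop := ∀ (n : ℕ) (E : C) (ψ : X.obj (op n) ⟶ E),
  ∃ (m : ℕ) (h : n ≤ m) (φ : Y.obj (op m) ⟶ E), a.app (op m) ≫ φ = ARSys.tr X h ≫ ψ

variable {a}

lemma inj_of_isProIso (ha : DerCA.IsProIso a) : Inj a := by
  intro n E φ hφ
  obtain ⟨m, h, b, _, h2⟩ := ha n
  exact ⟨m, h, by rw [← h2, Category.assoc, hφ, comp_zero]⟩

omit [Preadditive C] in
lemma surj_of_isProIso (ha : DerCA.IsProIso a) : Surj a := by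
  intro n E ψ
  obtain ⟨m, h, b, h1, _⟩ := ha n
  exact ⟨m, h, b ≫ ψ, by rw [← h1, Category.assoc]⟩

lemma isProIso_of_inj_surj (h1 : Inj a) (h2 : Surj a) : DerCA.IsProIso a := by
  intro n
  obtain ⟨m, hm, φ, hφ⟩ := h2 n _ (𝟙 _)
  rw [Category.comp_id] at hφ
  obtain ⟨k, hk, hkk⟩ := h1 m _ (φ ≫ a.app (op n) - ARSys.tr Y hm) (by
    rw [Preadditive.comp_sub, ← Category.assoc, hφ, tr_nat, sub_self])
  refine ⟨k, hm.trans hk, ARSys.tr Y hk ≫ φ, ?_, ?_⟩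
  · rw [← tr_nat_assoc, hφ, tr_trans]
  · rw [Preadditive.comp_sub, sub_eq_zero, tr_trans] at hkk
    rw [Category.assoc, hkk]

theorem isProIso_iff : DerCA.IsProIso a ↔ Inj a ∧ Surj a :=
  ⟨fun h => ⟨inj_of_isProIso h, surj_of_isProIso h⟩, fun h => isProIso_of_inj_surj h.1 h.2⟩

end Crit

section Map

variable {C : Type u} [Category.{v} C] {D : Type u'} [Category.{v'} D]

/-- Functors preserve pro-isomorphisms. -/
theorem isProIso_map (L : C ⥤ D) {X Y : ARSys.PS C} {a : X ⟶ Y} (ha : DerCA.IsProIso a) :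
    DerCA.IsProIso (Functor.whiskerRight a L) := by
  intro n
  obtain ⟨m, h, b, h1, h2⟩ := ha n
  refine ⟨m, h, L.map b, ?_, ?_⟩
  · change L.map (a.app (op m)) ≫ L.map b = L.map (ARSys.tr X h)
    rw [← h1, L.map_comp]
  · change L.map b ≫ L.map (a.app (op n)) = L.map (ARSys.tr Y h)
    rw [← h2, L.map_comp]

/-- Pro-isomorphisms are invariant under isomorphism of arrows. -/
theorem isProIso_of_iso {X Y X' Y' : ARSys.PS C} {a : X ⟶ Y} {a' : X' ⟶ Y'} (e : X ≅ X')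
    (e' : Y ≅ Y') (h : a ≫ e'.hom = e.hom ≫ a') (ha : DerCA.IsProIso a) : DerCA.IsProIso a' := by
  intro n
  obtain ⟨m, hm, b, h1, h2⟩ := ha n
  have h' : ∀ k : ℕ, a.app (op k) ≫ e'.hom.app (op k) = e.hom.app (op k) ≫ a'.app (op k) :=
    fun k => NatTrans.congr_app h (op k)
  have h'' : ∀ k : ℕ, e.inv.app (op k) ≫ a.app (op k) = a'.app (op k) ≫ e'.inv.app (op k) := by
    intro k
    have h3 : e.inv ≫ a = a' ≫ e'.inv := by
      rw [Iso.inv_comp_eq, ← Category.assoc, ← h, Category.assoc, Iso.hom_inv_id, Category.comp_id]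
    exact NatTrans.congr_app h3 (op k)
  refine ⟨m, hm, e'.inv.app (op m) ≫ b ≫ e.hom.app (op n), ?_, ?_⟩
  · rw [← Category.assoc, ← h'', Category.assoc, ← Category.assoc (a.app _), h1, tr_nat,
      ← Category.assoc, ← NatTrans.comp_app, Iso.inv_hom_id, NatTrans.id_app, Category.id_comp]
  · rw [Category.assoc, Category.assoc, ← h', ← Category.assoc b, h2, tr_nat,
      ← Category.assoc, ← NatTrans.comp_app, Iso.inv_hom_id, NatTrans.id_app, Category.id_comp]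

lemma isProIso_of_isIso {X Y : ARSys.PS C} (a : X ⟶ Y) (ha : ∀ n : ℕ, IsIso (a.app (op n))) :
    DerCA.IsProIso a := by
  intro n
  have := ha n
  refine ⟨n, le_rfl, inv (a.app (op n)), ?_, ?_⟩
  · rw [tr_self, IsIso.hom_inv_id]
  · rw [tr_self, IsIso.inv_hom_id]

end Map

section Tri

variable {D : Type u} [Category.{v} D] [Preadditive D] [HasZeroObject D] [HasShift D ℤ]
    [∀ n : ℤ, (shiftFunctor D n).Additive] [Pretriangulated D]

/-- The five lemma for inverse systems of distinguished triangles: if the first and third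
components are pro-isomorphisms, then so is the second one. -/
theorem isProIso₂ {X Y Z X' Y' Z' : ARSys.PS D}
    (f : X ⟶ Y) (g : Y ⟶ Z) (h : Z ⟶ X ⋙ shiftFunctor D (1 : ℤ))
    (f' : X' ⟶ Y') (g' : Y' ⟶ Z') (h' : Z' ⟶ X' ⋙ shiftFunctor D (1 : ℤ))
    (hT : ∀ n : ℕ, Dist (f.app (op n)) (g.app (op n)) (h.app (op n)))
    (hT' : ∀ n : ℕ, Dist (f'.app (op n)) (g'.app (op n)) (h'.app (op n)))
    (α : X ⟶ X') (β : Y ⟶ Y') (γ : Z ⟶ Z')
    (c₁ : ∀ n : ℕ, f.app (op n) ≫ β.app (op n) = α.app (op n) ≫ f'.app (op n))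
    (c₂ : ∀ n : ℕ, g.app (op n) ≫ γ.app (op n) = β.app (op n) ≫ g'.app (op n))
    (c₃ : ∀ n : ℕ, h.app (op n) ≫ (α.app (op n))⟦(1 : ℤ)⟧' = γ.app (op n) ≫ h'.app (op n))
    (hα : DerCA.IsProIso α) (hγ : DerCA.IsProIso γ) : DerCA.IsProIso β := by
  have hα₁ := isProIso_map (shiftFunctor D (1 : ℤ)) hα
  have nh : ∀ {a b : ℕ} (hab : a ≤ b), ARSys.tr Z hab ≫ h.app (op a) =
      h.app (op b) ≫ (ARSys.tr X hab)⟦(1 : ℤ)⟧' := fun hab => h.naturality _
  have nh' : ∀ {a b : ℕ} (hab : a ≤ b), ARSys.tr Z' hab ≫ h'.app (op a) =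
      h'.app (op b) ≫ (ARSys.tr X' hab)⟦(1 : ℤ)⟧' := fun hab => h'.naturality _
  refine isProIso_of_inj_surj ?_ ?_
  · intro n E φ hφ
    obtain ⟨m, hm, h1⟩ := inj_of_isProIso hα n E (f'.app (op n) ≫ φ) (by
      rw [← Category.assoc, ← c₁, Category.assoc, hφ, comp_zero])
    rw [tr_nat_assoc] at h1
    obtain ⟨ζ, hζ⟩ := yoneda₂ (hT' m) _ h1
    have h2 : g.app (op m) ≫ γ.app (op m) ≫ ζ = 0 := by
      rw [← Category.assoc, c₂, Category.assoc, ← hζ, ← tr_nat_assoc, hφ, comp_zero]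
    obtain ⟨ξ, hξ⟩ := yoneda₃ (hT m) _ h2
    obtain ⟨p, hp, ξ', hξ'⟩ : ∃ (p : ℕ) (hp : m ≤ p) (ξ' : (X'.obj (op p))⟦(1 : ℤ)⟧ ⟶ E),
        (α.app (op p))⟦(1 : ℤ)⟧' ≫ ξ' = (ARSys.tr X hp)⟦(1 : ℤ)⟧' ≫ ξ :=
      surj_of_isProIso hα₁ m E ξ
    obtain ⟨q, hq, h3⟩ := inj_of_isProIso hγ p E (ARSys.tr Z' hp ≫ ζ - h'.app (op p) ≫ ξ') (by
      rw [Preadditive.comp_sub, ← tr_nat_assoc, hξ, ← Category.assoc (γ.app (op p)), ← c₃,
        Category.assoc (h.app (op p)), hξ', ← Category.assoc (ARSys.tr Z hp), nh, Category.assoc,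
        sub_self])
    rw [Preadditive.comp_sub, sub_eq_zero] at h3
    refine ⟨q, (hm.trans hp).trans hq, ?_⟩
    have h4 : g'.app (op p) ≫ h'.app (op p) = 0 := comp₂₃ (hT' p)
    rw [← tr_trans Y' hm (hp.trans hq), Category.assoc, hζ, tr_nat_assoc,
      ← tr_trans Z' hp hq, Category.assoc, h3, ← tr_nat_assoc, ← Category.assoc (g'.app (op p)),
      h4, zero_comp, comp_zero]
  · intro n E ψ
    obtain ⟨m, hm, φ₁, hφ₁⟩ := surj_of_isProIso hα n E (f.app (op n) ≫ ψ)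
    obtain ⟨p, hp, h1⟩ := inj_of_isProIso hγ m (E⟦(1 : ℤ)⟧) (h'.app (op m) ≫ φ₁⟦(1 : ℤ)⟧') (by
      rw [← Category.assoc, ← c₃, Category.assoc, ← Functor.map_comp, hφ₁, tr_nat_assoc,
        Functor.map_comp, ← Category.assoc, comp₃₁ (hT m), zero_comp])
    rw [← Category.assoc, nh', Category.assoc, ← Functor.map_comp] at h1
    obtain ⟨φ₂, hφ₂⟩ := yoneda₁ (hT' p) _ h1
    have h2 : f.app (op p) ≫ (β.app (op p) ≫ φ₂ - ARSys.tr Y (hm.trans hp) ≫ ψ) = 0 := by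
      rw [Preadditive.comp_sub, ← Category.assoc, c₁, Category.assoc, ← hφ₂, ← tr_nat_assoc,
        hφ₁, tr_trans'_assoc X hm hp (hm.trans hp), ← tr_nat_assoc, sub_self]
    obtain ⟨ζ, hζ⟩ := yoneda₂ (hT p) _ h2
    obtain ⟨q, hq, ζ', hζ'⟩ := surj_of_isProIso hγ p E ζ
    refine ⟨q, (hm.trans hp).trans hq, ARSys.tr Y' hq ≫ φ₂ - g'.app (op q) ≫ ζ', ?_⟩
    rw [Preadditive.comp_sub, ← tr_nat_assoc, ← Category.assoc (β.app (op q)), ← c₂,
      Category.assoc, hζ', ← tr_nat_assoc, ← hζ, Preadditive.comp_sub, sub_sub_cancel,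
      tr_trans'_assoc Y (hm.trans hp) hq ((hm.trans hp).trans hq)]

end Tri

end K234.Pro
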