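import Groth.Agent.CohDer.K234.EssConst
import Groth.Agent.Sga4B.DTrunc

/-! Pro-isomorphisms and essentially constant systems in a derived category, bounded case: they are
detected on cohomology. -/

set_option autoImplicit false

universe w v u

open CategoryTheory CategoryTheory.Limits CategoryTheory.Pretriangulated Opposite K234.Raw K234.Pro
  K234.EssConst DerivedCategory DerivedCategory.TStructure

namespace K234.ProDer

variable {A : Type u} [Category.{v} A] [Abelian A] [HasDerivedCategory.{w} A]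

/-- The map on cohomology systems. -/
noncomputable abbrev Hf {X Y : ARSys.PS (DerivedCategory A)} (f : X ⟶ Y) (i : ℤ) :
    X ⋙ homologyFunctor A i ⟶ Y ⋙ homologyFunctor A i :=
  Functor.whiskerRight f (homologyFunctor A i)

section Heart

variable (m : ℤ) {X Y : ARSys.PS (DerivedCategory A)}

/-- Systems concentrated in one degree. -/
lemma isProIso_heart (hX : ∀ n : ℕ, (X.obj (op n)).IsGE m ∧ (X.obj (op n)).IsLE m)
    (hY : ∀ n : ℕ, (Y.obj (op n)).IsGE m ∧ (Y.obj (op n)).IsLE m) (f : X ⟶ Y)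
    (hf : DerCA.IsProIso (Hf f m)) : DerCA.IsProIso f := by
  intro n
  obtain ⟨k, hk, b, h1, h2⟩ := hf n
  have i1 := (hX n).1
  have i2 := (hX n).2
  have i3 := (hY k).1
  have i4 := (hY k).2
  have i5 := (hX k).1
  have i6 := (hX k).2
  have i7 := (hY n).1
  have i8 := (hY n).2
  obtain ⟨c, hc⟩ := (Groth.Agent.Sga4B.DTrunc.bij_heart m (Y.obj (op k)) (X.obj (op n))).2 b
  change (homologyFunctor A m).map c = b at hc
  refine ⟨k, hk, c, ?_, ?_⟩
  · apply (Groth.Agent.Sga4B.DTrunc.bij_heart m (X.obj (op k)) (X.obj (op n))).1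
    change (homologyFunctor A m).map _ = (homologyFunctor A m).map _
    rw [Functor.map_comp, hc]
    exact h1
  · apply (Groth.Agent.Sga4B.DTrunc.bij_heart m (Y.obj (op k)) (Y.obj (op n))).1
    change (homologyFunctor A m).map _ = (homologyFunctor A m).map _
    rw [Functor.map_comp, hc]
    exact h2

set_option backward.isDefEq.respectTransparency false in
/-- Essentially constant systems concentrated in one degree. -/
lemma isEssConstant_heart (hX : ∀ n : ℕ, (X.obj (op n)).IsGE m ∧ (X.obj (op n)).IsLE m)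
    {B : A} (c : (Functor.const ℕᵒᵖ).obj B ⟶ X ⋙ homologyFunctor A m)
    (hc : DerCA.IsEssConstant (X ⋙ homologyFunctor A m) B c) :
    ∃ (c' : (Functor.const ℕᵒᵖ).obj ((singleFunctor A m).obj B) ⟶ X),
      DerCA.IsEssConstant X ((singleFunctor A m).obj B) c' := by
  have i1 : ∀ n : ℕ, (X.obj (op n)).IsGE m := fun n => (hX n).1
  have i2 : ∀ n : ℕ, (X.obj (op n)).IsLE m := fun n => (hX n).2
  obtain ⟨i, s, hs, hc⟩ := hc
  let e : (homologyFunctor A m).obj ((singleFunctor A m).obj B) ≅ B :=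
    Groth.Agent.Sga4B.DTrunc.hs m B
  choose b hb using fun n : ℕ => (Groth.Agent.Sga4B.DTrunc.bij_heart m ((singleFunctor A m).obj B)
    (X.obj (op n))).2 (e.hom ≫ c.app (op n))
  obtain ⟨t, ht⟩ := (Groth.Agent.Sga4B.DTrunc.bij_heart m (X.obj (op i))
    ((singleFunctor A m).obj B)).2 (s ≫ e.inv)
  change ∀ n : ℕ, (homologyFunctor A m).map (b n) = _ at hb
  change (homologyFunctor A m).map t = _ at ht
  have hbt : ∀ {x y : ℕ} (h : x ≤ y), b y ≫ ARSys.tr X h = b x := by
    intro x y h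
    apply (Groth.Agent.Sga4B.DTrunc.bij_heart m _ (X.obj (op x))).1
    change (homologyFunctor A m).map _ = (homologyFunctor A m).map _
    rw [Functor.map_comp, hb, hb, Category.assoc]
    congr 1
    exact cone_tr c h
  let c' : (Functor.const ℕᵒᵖ).obj ((singleFunctor A m).obj B) ⟶ X :=
    { app := fun n => b n.unop
      naturality := fun x y f => by
        have h7 := hbt (leOfHom f.unop)
        exact (Category.id_comp _).trans h7.symm }
  refine ⟨c', i, t, ?_, fun j => ?_⟩
  · change b i ≫ t = 𝟙 ((singleFunctor A m).obj B)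
    apply (Groth.Agent.Sga4B.DTrunc.bij_heart m ((singleFunctor A m).obj B)
      ((singleFunctor A m).obj B)).1
    change (homologyFunctor A m).map (b i ≫ t) = (homologyFunctor A m).map (𝟙 _)
    rw [Functor.map_comp, hb, ht, Category.assoc, ← Category.assoc (c.app _), hs,
      CategoryTheory.Functor.map_id]
    change e.hom ≫ 𝟙 B ≫ e.inv = _
    rw [Category.id_comp, Iso.hom_inv_id]
  · obtain ⟨k, hi, hj, h⟩ := hc j
    refine ⟨k, hi, hj, ?_⟩
    change ARSys.tr X hj = ARSys.tr X hi ≫ t ≫ b j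
    apply (Groth.Agent.Sga4B.DTrunc.bij_heart m (X.obj (op k)) (X.obj (op j))).1
    change (homologyFunctor A m).map (ARSys.tr X hj) =
      (homologyFunctor A m).map (ARSys.tr X hi ≫ t ≫ b j)
    rw [Functor.map_comp, Functor.map_comp, hb, ht, Category.assoc, Iso.inv_hom_id_assoc]
    exact h

end Heart

section Trunc

variable (X : ARSys.PS (DerivedCategory A)) (a b : ℤ) (hab : a + 1 = b)

/-- `τ_{≤ a} X ⟶ X` -/
noncomputable abbrev ι₁ : X ⋙ t.truncLE a ⟶ X := Functor.whiskerLeft X (t.truncLEι a)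

/-- `X ⟶ τ_{≥ b} X` -/
noncomputable abbrev π₃ : X ⟶ X ⋙ t.truncGE b := Functor.whiskerLeft X (t.truncGEπ b)

/-- `τ_{≥ b} X ⟶ τ_{≤ a} X[1]` -/
noncomputable abbrev δ₃ : X ⋙ t.truncGE b ⟶ (X ⋙ t.truncLE a) ⋙ shiftFunctor _ (1 : ℤ) :=
  Functor.whiskerLeft X (t.truncGEδLE a b hab)

lemma dist (n : ℕ) : Dist ((ι₁ X a).app (op n)) ((π₃ X b).app (op n)) ((δ₃ X a b hab).app (op n)) :=
  t.triangleLEGE_distinguished a b hab (X.obj (op n))

lemma isIso_Hf_ι (i : ℤ) (hi : i ≤ a) : IsIso (Hf (ι₁ X a) i) := by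
  have : ∀ n, IsIso ((Hf (ι₁ X a) i).app n) := fun n =>
    Groth.Agent.Sga4B.DTrunc.isIso_homology_truncLE a i hi (X.obj n)
  exact NatIso.isIso_of_isIso_app _

lemma isIso_Hf_π (i : ℤ) (hi : b ≤ i) : IsIso (Hf (π₃ X b) i) := by
  have : ∀ n, IsIso ((Hf (π₃ X b) i).app n) := fun n =>
    Groth.Agent.Sga4B.DTrunc.isIso_homology_truncGE b i hi (X.obj n)
  exact NatIso.isIso_of_isIso_app _

end Trunc

/-- A map of uniformly bounded systems of the derived category which is a pro-isomorphism on all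
cohomology systems is a pro-isomorphism. -/
theorem isProIso_of_homology (k : ℕ) : ∀ (a b : ℤ) (_ : b < a + k)
    (X Y : ARSys.PS (DerivedCategory A)) (f : X ⟶ Y)
    (_ : ∀ n : ℕ, (X.obj (op n)).IsGE a ∧ (X.obj (op n)).IsLE b)
    (_ : ∀ n : ℕ, (Y.obj (op n)).IsGE a ∧ (Y.obj (op n)).IsLE b)
    (_ : ∀ i : ℤ, DerCA.IsProIso (Hf f i)), DerCA.IsProIso f := by
  induction k with
  | zero =>
    intro a b hab X Y f hX hY _
    refine isProIso_of_isIso f (fun n => ?_)
    have i1 := (hX n).1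
    have i2 := (hX n).2
    have i3 := (hY n).1
    have i4 := (hY n).2
    have z1 : IsZero (X.obj (op n)) := t.isZero _ b a (by simpa using hab)
    have z2 : IsZero (Y.obj (op n)) := t.isZero _ b a (by simpa using hab)
    exact ⟨0, z1.eq_of_src _ _, z2.eq_of_src _ _⟩
  | succ k ih =>
    intro a b hab X Y f hX hY hH
    have hb : (b - 1) + 1 = b := by lia
    let f₁ : X ⋙ t.truncLE (b - 1) ⟶ Y ⋙ t.truncLE (b - 1) := Functor.whiskerRight f _
    let f₃ : X ⋙ t.truncGE b ⟶ Y ⋙ t.truncGE b := Functor.whiskerRight f _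
    have i1 := fun n => (hX n).1
    have i2 := fun n => (hX n).2
    have i3 := fun n => (hY n).1
    have i4 := fun n => (hY n).2
    have c1 : f₁ ≫ ι₁ Y (b - 1) = ι₁ X (b - 1) ≫ f := by
      ext n
      exact (t.truncLEι (b - 1)).naturality (f.app n)
    have c2 : π₃ X b ≫ f₃ = f ≫ π₃ Y b := by
      ext n
      exact ((t.truncGEπ b).naturality (f.app n)).symm
    have h1 : DerCA.IsProIso f₁ := by
      refine ih a (b - 1) (by push_cast at hab; lia) _ _ f₁
        (fun n => ⟨inferInstanceAs (t.IsGE ((t.truncLE (b - 1)).obj (X.obj (op n))) a),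
          inferInstanceAs (t.IsLE ((t.truncLE (b - 1)).obj (X.obj (op n))) (b - 1))⟩)
        (fun n => ⟨inferInstanceAs (t.IsGE ((t.truncLE (b - 1)).obj (Y.obj (op n))) a),
          inferInstanceAs (t.IsLE ((t.truncLE (b - 1)).obj (Y.obj (op n))) (b - 1))⟩) ?_
      intro i
      by_cases hi : i ≤ b - 1
      · have j1 := isIso_Hf_ι X (b - 1) i hi
        have j2 := isIso_Hf_ι Y (b - 1) i hi
        refine isProIso_of_iso (asIso (Hf (ι₁ X (b - 1)) i)).symm (asIso (Hf (ι₁ Y (b - 1)) i)).symm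
          ?_ (hH i)
        rw [Iso.symm_hom, Iso.symm_hom, asIso_inv, asIso_inv, IsIso.comp_inv_eq, Category.assoc,
          IsIso.eq_inv_comp, ← Functor.whiskerRight_comp, ← Functor.whiskerRight_comp, c1]
      · refine isProIso_of_isIso _ (fun n => ?_)
        have z1 : IsZero ((homologyFunctor A i).obj ((t.truncLE (b - 1)).obj (X.obj (op n)))) :=
          isZero_of_isLE _ (b - 1) i (by lia)
        have z2 : IsZero ((homologyFunctor A i).obj ((t.truncLE (b - 1)).obj (Y.obj (op n)))) :=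
          isZero_of_isLE _ (b - 1) i (by lia)
        exact ⟨0, z1.eq_of_src _ _, z2.eq_of_src _ _⟩
    have h3 : DerCA.IsProIso f₃ := by
      refine isProIso_heart b (fun n => ⟨inferInstanceAs (t.IsGE ((t.truncGE b).obj (X.obj (op n))) b),
          inferInstanceAs (t.IsLE ((t.truncGE b).obj (X.obj (op n))) b)⟩)
        (fun n => ⟨inferInstanceAs (t.IsGE ((t.truncGE b).obj (Y.obj (op n))) b),
          inferInstanceAs (t.IsLE ((t.truncGE b).obj (Y.obj (op n))) b)⟩) f₃ ?_
      have j1 := isIso_Hf_π X b b le_rfl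
      have j2 := isIso_Hf_π Y b b le_rfl
      refine isProIso_of_iso (asIso (Hf (π₃ X b) b)) (asIso (Hf (π₃ Y b) b)) ?_ (hH b)
      rw [asIso_hom, asIso_hom, ← Functor.whiskerRight_comp, ← Functor.whiskerRight_comp, c2]
    refine isProIso₂ (ι₁ X (b - 1)) (π₃ X b) (δ₃ X (b - 1) b hb) (ι₁ Y (b - 1)) (π₃ Y b)
      (δ₃ Y (b - 1) b hb) (dist X _ _ hb) (dist Y _ _ hb) f₁ f f₃ ?_ ?_ ?_ h1 h3
    · intro n
      exact (NatTrans.congr_app c1 (op n)).symm
    · intro n
      exact NatTrans.congr_app c2 (op n)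
    · intro n
      exact ((t.truncGEδLE (b - 1) b hb).naturality (f.app (op n))).symm

/-- There is a value for which the system is essentially constant. -/
abbrev IsEC {C : Type*} [Category* C] (X : ARSys.PS C) : Prop :=
  ∃ (B : C) (c : (Functor.const ℕᵒᵖ).obj B ⟶ X), DerCA.IsEssConstant X B c

lemma isEC_of_iso {C : Type*} [Category* C] {X Y : ARSys.PS C} (e : X ≅ Y) (h : IsEC X) :
    IsEC Y := by
  obtain ⟨B, c, i, s, hs, hc⟩ := h
  refine ⟨B, c ≫ e.hom, i, e.inv.app (op i) ≫ s, ?_, fun j => ?_⟩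
  · have h1 : e.hom.app (op i) ≫ e.inv.app (op i) = 𝟙 _ := by
      rw [← NatTrans.comp_app, Iso.hom_inv_id]
      rfl
    rw [NatTrans.comp_app, Category.assoc, ← Category.assoc (e.hom.app _), h1, Category.id_comp, hs]
  · obtain ⟨k, hi, hj, h⟩ := hc j
    refine ⟨k, hi, hj, ?_⟩
    have h1 : e.inv.app (op k) ≫ e.hom.app (op k) = 𝟙 _ := by
      rw [← NatTrans.comp_app, Iso.inv_hom_id]
      rfl
    rw [NatTrans.comp_app]
    calc ARSys.tr Y hj = (e.inv.app (op k) ≫ e.hom.app (op k)) ≫ ARSys.tr Y hj := by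
          rw [h1, Category.id_comp]
      _ = e.inv.app (op k) ≫ ARSys.tr X hj ≫ e.hom.app (op j) := by
          rw [Category.assoc, tr_nat]
      _ = e.inv.app (op k) ≫ ARSys.tr X hi ≫ s ≫ c.app (op j) ≫ e.hom.app (op j) := by
          rw [h]; simp only [Category.assoc]
      _ = _ := by
          rw [← tr_nat_assoc]
          simp only [Category.assoc]

lemma isEC_of_isZero {C : Type*} [Category* C] [HasZeroMorphisms C] {X : ARSys.PS C}
    (h : ∀ n : ℕ, IsZero (X.obj (op n))) : IsEC X := by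
  let c : (Functor.const ℕᵒᵖ).obj (X.obj (op 0)) ⟶ X :=
    { app := fun n => 0
      naturality := fun x y f => (h y.unop).eq_of_tgt _ _ }
  exact ⟨X.obj (op 0), c, 0, 0, (h 0).eq_of_src _ _, fun j => ⟨j, Nat.zero_le _, le_rfl,
    (h j).eq_of_tgt _ _⟩⟩

/-- A uniformly bounded system of the derived category with essentially constant cohomology systems
is essentially constant. -/
theorem isEssConstant_of_homology (k : ℕ) : ∀ (a b : ℤ) (_ : b < a + k)
    (X : ARSys.PS (DerivedCategory A))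
    (_ : ∀ n : ℕ, (X.obj (op n)).IsGE a ∧ (X.obj (op n)).IsLE b)
    (_ : ∀ i : ℤ, IsEC (X ⋙ homologyFunctor A i)), IsEC X := by
  induction k with
  | zero =>
    intro a b hab X hX _
    refine isEC_of_isZero (fun n => ?_)
    have i1 := (hX n).1
    have i2 := (hX n).2
    exact t.isZero _ b a (by simpa using hab)
  | succ k ih =>
    intro a b hab X hX hH
    have hb : (b - 1) + 1 = b := by lia
    have i1 := fun n => (hX n).1
    have i2 := fun n => (hX n).2
    have h1 : IsEC (X ⋙ t.truncLE (b - 1)) := by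
      refine ih a (b - 1) (by push_cast at hab; lia) _
        (fun n => ⟨inferInstanceAs (t.IsGE ((t.truncLE (b - 1)).obj (X.obj (op n))) a),
          inferInstanceAs (t.IsLE ((t.truncLE (b - 1)).obj (X.obj (op n))) (b - 1))⟩) ?_
      intro i
      by_cases hi : i ≤ b - 1
      · have j1 := isIso_Hf_ι X (b - 1) i hi
        exact isEC_of_iso (asIso (Hf (ι₁ X (b - 1)) i)).symm (hH i)
      · refine isEC_of_isZero (fun n => ?_)
        exact isZero_of_isLE ((t.truncLE (b - 1)).obj (X.obj (op n))) (b - 1) i (by lia)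
    have h3 : IsEC (X ⋙ t.truncGE b) := by
      have j1 := isIso_Hf_π X b b le_rfl
      obtain ⟨B, c, hc⟩ := isEC_of_iso (asIso (Hf (π₃ X b) b)) (hH b)
      obtain ⟨c', hc'⟩ := isEssConstant_heart b
        (fun n => ⟨inferInstanceAs (t.IsGE ((t.truncGE b).obj (X.obj (op n))) b),
          inferInstanceAs (t.IsLE ((t.truncGE b).obj (X.obj (op n))) b)⟩) c hc
      exact ⟨_, c', hc'⟩
    exact middle _ X _ (ι₁ X (b - 1)) (π₃ X b) (δ₃ X (b - 1) b hb) (dist X _ _ hb) h1 h3

end K234.ProDer
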