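import Mathlib.CategoryTheory.Triangulated.Pretriangulated

/-! Distinguished triangles on raw data: the exactness properties with explicit objects, so that
no `Triangle.mk _ _ _ |>.obj₃` appears in later goals. -/

set_option autoImplicit false

universe v u

open CategoryTheory CategoryTheory.Limits CategoryTheory.Pretriangulated

namespace K234.Raw

variable {D : Type u} [Category.{v} D] [Preadditive D] [HasZeroObject D] [HasShift D ℤ]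
    [∀ n : ℤ, (shiftFunctor D n).Additive] [Pretriangulated D]

variable {X Y Z : D} {f : X ⟶ Y} {g : Y ⟶ Z} {h : Z ⟶ X⟦(1 : ℤ)⟧}

/-- A triangle given by raw data is distinguished. -/
abbrev Dist (f : X ⟶ Y) (g : Y ⟶ Z) (h : Z ⟶ X⟦(1 : ℤ)⟧) : Prop :=
  Triangle.mk f g h ∈ distinguishedTriangles

lemma comp₁₂ (hT : Dist f g h) : f ≫ g = 0 := comp_distTriang_mor_zero₁₂ _ hT

lemma comp₂₃ (hT : Dist f g h) : g ≫ h = 0 := comp_distTriang_mor_zero₂₃ _ hT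

lemma comp₃₁ (hT : Dist f g h) : h ≫ f⟦(1 : ℤ)⟧' = 0 := comp_distTriang_mor_zero₃₁ _ hT

lemma yoneda₂ (hT : Dist f g h) {W : D} (u : Y ⟶ W) (hu : f ≫ u = 0) :
    ∃ v : Z ⟶ W, u = g ≫ v := Triangle.yoneda_exact₂ _ hT u hu

lemma yoneda₃ (hT : Dist f g h) {W : D} (u : Z ⟶ W) (hu : g ≫ u = 0) :
    ∃ v : X⟦(1 : ℤ)⟧ ⟶ W, u = h ≫ v := Triangle.yoneda_exact₃ _ hT u hu

lemma coyoneda₂ (hT : Dist f g h) {W : D} (u : W ⟶ Y) (hu : u ≫ g = 0) :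
    ∃ v : W ⟶ X, u = v ≫ f := Triangle.coyoneda_exact₂ _ hT u hu

lemma coyoneda₃ (hT : Dist f g h) {W : D} (u : W ⟶ Z) (hu : u ≫ h = 0) :
    ∃ v : W ⟶ Y, u = v ≫ g := Triangle.coyoneda_exact₃ _ hT u hu

lemma coyoneda₁ (hT : Dist f g h) {W : D} (u : W ⟶ X⟦(1 : ℤ)⟧) (hu : u ≫ f⟦(1 : ℤ)⟧' = 0) :
    ∃ v : W ⟶ Z, u = v ≫ h := Triangle.coyoneda_exact₁ _ hT u hu

/-- Exactness at `X` after shifting back: a map `W ⟶ X` killed by `f` comes from a map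
`W⟦1⟧ ⟶ Z`. -/
lemma coyoneda₁' (hT : Dist f g h) {W : D} (u : W ⟶ X) (hu : u ≫ f = 0) :
    ∃ v : W⟦(1 : ℤ)⟧ ⟶ Z, u⟦(1 : ℤ)⟧' = v ≫ h :=
  coyoneda₁ hT _ (by rw [← Functor.map_comp, hu, Functor.map_zero])

/-- Exactness of `Hom(-, W)` at `X`: a map `u : X ⟶ W` extends to `Y` iff `h ≫ u⟦1⟧ = 0`. -/
lemma yoneda₁ (hT : Dist f g h) {W : D} (u : X ⟶ W) (hu : h ≫ u⟦(1 : ℤ)⟧' = 0) :
    ∃ v : Y ⟶ W, u = f ≫ v := by
  obtain ⟨v, hv⟩ : ∃ v : Y⟦(1 : ℤ)⟧ ⟶ W⟦(1 : ℤ)⟧, u⟦(1 : ℤ)⟧' = (-(f⟦(1 : ℤ)⟧')) ≫ v :=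
    Triangle.yoneda_exact₃ _ (rot_of_distTriang _ hT) (u⟦(1 : ℤ)⟧') hu
  obtain ⟨w, rfl⟩ := (shiftFunctor D (1 : ℤ)).map_surjective v
  refine ⟨-w, (shiftFunctor D (1 : ℤ)).map_injective ?_⟩
  rw [hv, Functor.map_comp, Functor.map_neg]
  simp

lemma rot (hT : Dist f g h) : Dist g h (-(f⟦(1 : ℤ)⟧')) := rot_of_distTriang _ hT

lemma mono₁ (hT : Dist f g h) (hh : h = 0) : Mono f := Triangle.mono₁ _ hT hh

lemma epi₂ (hT : Dist f g h) (hh : h = 0) : Epi g := Triangle.epi₂ _ hT hh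

lemma h_eq_zero_of_mono (hT : Dist f g h) (hf : Mono f) : h = 0 :=
  Triangle.mor₃_eq_zero_of_mono₁ _ hT hf

lemma h_eq_zero_of_epi (hT : Dist f g h) (hg : Epi g) : h = 0 :=
  Triangle.mor₃_eq_zero_of_epi₂ _ hT hg

lemma exists_biprod (hT : Dist f g h) (hh : h = 0) :
    ∃ e : Y ≅ X ⊞ Z, f ≫ e.hom = biprod.inl ∧ g = e.hom ≫ biprod.snd :=
  exists_iso_binaryBiproduct_of_distTriang _ hT hh

lemma exists_section (hT : Dist f g h) (hh : h = 0) : ∃ s : Z ⟶ Y, s ≫ g = 𝟙 Z := by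
  obtain ⟨s, hs⟩ := coyoneda₃ hT (𝟙 Z) (by rw [hh, comp_zero])
  exact ⟨s, hs.symm⟩

lemma exists_cone (f : X ⟶ Y) : ∃ (Z : D) (g : Y ⟶ Z) (h : Z ⟶ X⟦(1 : ℤ)⟧), Dist f g h :=
  distinguished_cocone_triangle f

lemma exists_fiber (g : Y ⟶ Z) : ∃ (X : D) (f : X ⟶ Y) (h : Z ⟶ X⟦(1 : ℤ)⟧), Dist f g h :=
  distinguished_cocone_triangle₁ g

/-- Completion of a morphism of triangles, third component. -/
lemma complete₃ {X' Y' Z' : D} {f' : X' ⟶ Y'} {g' : Y' ⟶ Z'} {h' : Z' ⟶ X'⟦(1 : ℤ)⟧}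
    (hT : Dist f g h) (hT' : Dist f' g' h') (a : X ⟶ X') (b : Y ⟶ Y') (hab : f ≫ b = a ≫ f') :
    ∃ c : Z ⟶ Z', g ≫ c = b ≫ g' ∧ h ≫ a⟦(1 : ℤ)⟧' = c ≫ h' :=
  complete_distinguished_triangle_morphism _ _ hT hT' a b hab

/-- Completion of a morphism of triangles, first component. -/
lemma complete₁ {X' Y' Z' : D} {f' : X' ⟶ Y'} {g' : Y' ⟶ Z'} {h' : Z' ⟶ X'⟦(1 : ℤ)⟧}
    (hT : Dist f g h) (hT' : Dist f' g' h') (b : Y ⟶ Y') (c : Z ⟶ Z') (hbc : g ≫ c = b ≫ g') :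
    ∃ a : X ⟶ X', f ≫ b = a ≫ f' ∧ h ≫ a⟦(1 : ℤ)⟧' = c ≫ h' :=
  complete_distinguished_triangle_morphism₁ _ _ hT hT' b c hbc

/-- Completion of a morphism of triangles, second component. -/
lemma complete₂ {X' Y' Z' : D} {f' : X' ⟶ Y'} {g' : Y' ⟶ Z'} {h' : Z' ⟶ X'⟦(1 : ℤ)⟧}
    (hT : Dist f g h) (hT' : Dist f' g' h') (a : X ⟶ X') (c : Z ⟶ Z')
    (hac : h ≫ a⟦(1 : ℤ)⟧' = c ≫ h') :
    ∃ b : Y ⟶ Y', f ≫ b = a ≫ f' ∧ g ≫ c = b ≫ g' :=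
  complete_distinguished_triangle_morphism₂ _ _ hT hT' a c hac

end K234.Raw
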