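import Groth.Agent.CohtopB.LeftRes
import Mathlib.Algebra.Homology.Opposite
import Mathlib.CategoryTheory.Abelian.Opposite

/-!
Right resolutions of complexes by objects of a class `I` such that every object is a subobject of
an object in `I` (the dual of `Groth.Agent.CohtopB.LeftRes`).
-/

set_option autoImplicit false
universe v u

open CategoryTheory CategoryTheory.Limits Opposite

namespace K234.RightRes

variable {A : Type u} [Category.{v} A] [Abelian A]

set_option backward.isDefEq.respectTransparency false in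
/-- Right resolutions of cochain complexes indexed by `ℕ`. -/
theorem exists_cochain (I : A → Prop) (K : CochainComplex A ℕ)
    (hI : ∀ X : A, ∃ (Y : A) (ι : X ⟶ Y), I Y ∧ Mono ι) :
    ∃ (L : CochainComplex A ℕ) (α : K ⟶ L),
    (∀ n, I (L.X n)) ∧ (∀ n, Mono (α.f n)) ∧ QuasiIso α := by
  let K' : ChainComplex Aᵒᵖ ℕ := K.op
  obtain ⟨Q, α, h1, h2, h3⟩ := Groth.Agent.CohtopB.LeftRes.exists_chain
    (fun X : Aᵒᵖ => I X.unop) K' (fun X => by
      obtain ⟨Y, ι, hY, hι⟩ := hI X.unop
      exact ⟨op Y, ι.op, hY, op_epi_of_mono ι⟩)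
  let L : CochainComplex A ℕ := HomologicalComplex.unop (c := (ComplexShape.up ℕ).symm) Q
  let β : K ⟶ L :=
    { f := fun n => (α.f n).unop
      comm' := fun i j _ => by
        have := α.comm j i
        exact Quiver.Hom.op_inj this.symm }
  refine ⟨L, β, h1, fun n => ?_, ?_⟩
  · have := h2 n
    exact unop_mono_of_epi (α.f n)
  · have h4 : QuasiIso ((HomologicalComplex.opFunctor A (ComplexShape.up ℕ)).map β.op) := h3
    rwa [HomologicalComplex.quasiIso_opFunctor_map_iff] at h4

/-- Right resolutions of complexes vanishing below `a`. -/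
theorem exists_right_resolution (I : A → Prop)
    (hI0 : ∃ Z : A, Limits.IsZero Z ∧ I Z) (hI : ∀ X : A, ∃ (Y : A) (ι : X ⟶ Y), I Y ∧ Mono ι)
    (K : CochainComplex A ℤ) (a : ℤ) [K.IsStrictlyGE a] :
    ∃ (L : CochainComplex A ℤ) (α : K ⟶ L), L.IsStrictlyGE a ∧ (∀ n, I (L.X n)) ∧
      (∀ n, Mono (α.f n)) ∧ QuasiIso α := by
  let e := ComplexShape.embeddingUpIntGE a
  have hlift : e.HasLift (𝟙 (K.restriction e)) := by
    intro j hj i' hi'
    have hni : ∀ i, e.f i ≠ i' := by
      intro i hi
      subst hi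
      exact (hj.2 i) hi'
    exact (K.isZero_X_of_isStrictlySupported e i' hni).eq_of_src _ _
  obtain ⟨Q, α, h1, h2, h3⟩ := exists_cochain I (K.restriction e) hI
  let β : K ⟶ (K.restriction e).extend e := e.liftExtend (𝟙 _) hlift
  have hβ : IsIso β := by
    have : ∀ i', IsIso (β.f i') := by
      intro i'
      by_cases hi : ∃ i, e.f i = i'
      · obtain ⟨i, hi⟩ := hi
        rw [e.isIso_liftExtend_f_iff _ _ hi]
        exact inferInstanceAs (IsIso (𝟙 _))
      · push Not at hi
        exact ⟨0, (K.isZero_X_of_isStrictlySupported e i' hi).eq_of_src _ _,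
          ((K.restriction e).isZero_extend_X e i' hi).eq_of_src _ _⟩
    exact HomologicalComplex.Hom.isIso_of_components β
  let γ : K ⟶ Q.extend e := β ≫ HomologicalComplex.extendMap α e
  have hγ : QuasiIso γ := by
    have : QuasiIso (HomologicalComplex.extendMap α e) := inferInstance
    exact inferInstanceAs (QuasiIso (_ ≫ _))
  have hγ' (n : ℤ) : Mono (γ.f n) := by
    by_cases hi : ∃ i, e.f i = n
    · obtain ⟨i, hi⟩ := hi
      have : Mono ((HomologicalComplex.extendMap α e).f n) := by
        rw [HomologicalComplex.extendMap_f α e hi]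
        have := h2 i
        infer_instance
      have : IsIso (β.f n) := inferInstance
      exact inferInstanceAs (Mono (_ ≫ _))
    · push Not at hi
      have h := K.isZero_X_of_isStrictlySupported e n hi
      exact ⟨fun a b _ => h.eq_of_tgt a b⟩
  obtain ⟨Z, hZ, hPZ⟩ := hI0
  have key (n : ℤ) : ∃ X : A, I X ∧ Nonempty (X ≅ (Q.extend e).X n) := by
    by_cases hi : ∃ i, e.f i = n
    · obtain ⟨i, hi⟩ := hi
      exact ⟨_, h1 i, ⟨(Q.extendXIso e hi).symm⟩⟩
    · push Not at hi
      exact ⟨Z, hPZ, ⟨hZ.iso (Q.isZero_extend_X e n hi)⟩⟩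
  choose X hX iX using key
  obtain ⟨L, eL, hL⟩ := Groth.Agent.CohtopB.LeftRes.exists_iso_of_X (Q.extend e) X
    (fun n => (iX n).some)
  refine ⟨L, γ ≫ eL.inv, ?_, fun n => ?_, fun n => ?_, inferInstance⟩
  · have : CochainComplex.IsStrictlyGE (Q.extend e) a :=
      inferInstanceAs ((Q.extend e).IsStrictlySupported e)
    exact CochainComplex.isStrictlyGE_of_iso eL.symm a
  · rw [hL n]; exact hX n
  · have := hγ' n
    rw [HomologicalComplex.comp_f]
    infer_instance

/-- Right resolutions of complexes with cohomology vanishing below `a`. -/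
theorem exists_right_resolution' (I : A → Prop)
    (hI0 : ∃ Z : A, Limits.IsZero Z ∧ I Z) (hI : ∀ X : A, ∃ (Y : A) (ι : X ⟶ Y), I Y ∧ Mono ι)
    (K : CochainComplex A ℤ) (a : ℤ) (hK : ∀ n : ℤ, n < a → Limits.IsZero (K.homology n)) :
    ∃ (L : CochainComplex A ℤ) (α : K ⟶ L), L.IsStrictlyGE a ∧ (∀ n, I (L.X n)) ∧ QuasiIso α := by
  have : K.IsGE a := by
    rw [CochainComplex.isGE_iff]
    intro i hi
    rw [HomologicalComplex.exactAt_iff_isZero_homology]
    exact hK i hi
  obtain ⟨L, α, h1, h2, h3, h4⟩ := exists_right_resolution I hI0 hI (K.truncGE a) a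
  exact ⟨L, K.πTruncGE a ≫ α, h1, h2, inferInstance⟩

end K234.RightRes
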